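import Mathlib
import Cfsg.Prelude.Def_LieTypeChar
import Cfsg.Prelude.Def_CaseTheorems
set_option linter.all false

/-!
# Frames: the interface of the type fact (T') of node NI (helper598, final form bb ODD #10128, #10287, #10318)

* `Frame N z` : commuting subgroups `J i ≃ SL₂(F)` (`i < m`, `0 < m`, `|F| > 3` odd) of `N` with involutions `y i ∈ J i`,
  `J i` subnormal in `C_N(y i)`, the `y i` distinct, no three of them with product `1`, and `z ∈ ⟨y i⟩`.
* `Even8 z` : `z` is an involution, the square of two elements `u`, `x` of order four with `[u,x] = z`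
  (`z ∈ Q₈ ≤ SL₂(q')`).
* `LieBig X` : `X` is of Lie type in odd characteristic over a field with more than three elements, of Lie rank at
  least 2 or `U₃(q)` (not `L₂(q)`, not `²G₂(q)`).
* `FrameFact` : THE TYPE FACT (T').
-/

set_option autoImplicit false

namespace Cfsg.Agent.OddHalf.NI

open Subgroup Cfsg
open scoped commutatorElement

universe u

/-- A frame of `N` for the involution `z`. -/
structure Frame (N : Type*) [Group N] (z : N) where
  /-- number of members -/
  m : ℕ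
  pos : 0 < m
  J : Fin m → Subgroup N
  y : Fin m → N
  F : Type
  [field : Field F]
  [fin : Fintype F]
  odd : Odd (Fintype.card F)
  card : 3 < Fintype.card F
  iso : ∀ i, Nonempty (↥(J i) ≃* Matrix.SpecialLinearGroup (Fin 2) F)
  mem : ∀ i, y i ∈ J i
  ord : ∀ i, orderOf (y i) = 2
  le : ∀ i, J i ≤ centralizer {y i}
  sub : ∀ i, ((J i).subgroupOf (centralizer {y i})).IsSubnormal
  comm : ∀ i j, i ≠ j → ∀ a ∈ J i, ∀ b ∈ J j, a * b = b * a
  inj : Function.Injective y
  /-- no three distinct involutions of the frame have product one -/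
  three : ∀ a b c, a ≠ b → a ≠ c → b ≠ c → y a * y b ≠ y c
  gen : z ∈ closure (Set.range y)

/-- `z` is the involution of a quaternion subgroup of order eight. -/
def Even8 {N : Type*} [Group N] (z : N) : Prop :=
  orderOf z = 2 ∧ ∃ u x : N, u * u = z ∧ x * x = z ∧ ⁅u, x⁆ = z

theorem Even8.map {N M : Type*} [Group N] [Group M] {z : N} (h : Even8 z) (f : N →* M) (hf : f z ≠ 1) :
    Even8 (f z) := by
  obtain ⟨h1, u, x, hu, hx, hux⟩ := h
  refine ⟨?_, f u, f x, by rw [← map_mul, hu], by rw [← map_mul, hx], by rw [← map_commutatorElement, hux]⟩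
  refine orderOf_eq_prime ?_ hf
  rw [← map_pow, ← h1, pow_orderOf_eq_one, map_one]

/-- `X` is of Lie type over a field of odd order `q > 3`, of Lie rank at least 2, or `U₃(q)`. -/
def LieBig (X : Type*) [Group X] : Prop :=
  ∃ (F : Type) (_ : Field F) (_ : Fintype F), Odd (Fintype.card F) ∧ 3 < Fintype.card F ∧
    ((∃ n, 3 ≤ n ∧ Nonempty (X ≃* Matrix.ProjectiveSpecialLinearGroup (Fin n) F)) ∨
      (∃ m, 2 ≤ m ∧ Nonempty (X ≃* PSp m F)) ∨
      (∃ n q, 3 < q ∧ Fintype.card F = q ^ 2 ∧ 3 ≤ n ∧ Nonempty (X ≃* PSU n F q)) ∨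
      (∃ m, 3 ≤ m ∧ Nonempty (X ≃* POmega F (quadFormOdd m F))) ∨
      (∃ m, 4 ≤ m ∧ Nonempty (X ≃* POmega F (quadFormPlus m F))) ∨
      (∃ m, ∃ a b : F, 4 ≤ m ∧ (∀ z₁ z₂ : F, z₁ ^ 2 + a * z₁ * z₂ + b * z₂ ^ 2 = 0 → z₁ = 0 ∧ z₂ = 0) ∧
        Nonempty (X ≃* POmega F (quadFormMinus (m - 1) F a b))) ∨
      Nonempty (X ≃* ↥(Lie.chevG2.group F)) ∨ Nonempty (X ≃* ↥(Lie.chevF4.group F)) ∨
      Nonempty (X ≃* ↥(Lie.chevE6.group F)) ∨ Nonempty (X ≃* ↥(Lie.chevE7.group F)) ∨
      Nonempty (X ≃* ↥(Lie.chevE8.group F)) ∨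
      (∃ q, IsPrimePow q ∧ 3 < q ∧ Fintype.card F = q ^ 2 ∧ Nonempty (X ≃* ↥(Lie.twistedE6 F q))) ∨
      (∃ q, IsPrimePow q ∧ 3 < q ∧ Fintype.card F = q ^ 3 ∧ Nonempty (X ≃* ↥(Lie.twistedD4 F q))))

/-- **THE TYPE FACT (T')**: an even central involution of a quasisimple group `N` (the centre a 2-group) with `N / Z(N)`
of Lie type over a field of odd order `q > 3` lies in a frame. -/
def FrameFact : Prop :=
  ∀ (N : Type u) [Group N] [Finite N], IsQuasisimple N → IsPGroup 2 ↥(center N) → LieBig (N ⧸ center N) →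
    ∀ z ∈ center N, Even8 z → Nonempty (Frame N z)

end Cfsg.Agent.OddHalf.NI
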