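import Mathlib
import Cfsg.Agent.Nodes.ZRel
import Cfsg.Agent.Cit.Defs
import Cfsg.Agent.OddHalf.NI.FrameDef
import Cfsg.Agent.LieClassical.SLTwoSylowTwo
import Cfsg.Agent.OddHalf.LongSL.OfCls
import Cfsg.Agent.OddHalf.NI.CovTwo
import Cfsg.Agent.Nodes.ClsLift
import Cfsg.Agent.GH.Cov.QuatLift
import Cfsg.Agent.Lib.PSL2Inv
set_option linter.all false

-- part: OddHalf/NI/FrameMin
section
/-!
# Frames from charts (node NI, (T'); bb ODD #10406)

Let `c` be any chart (`Nodes/Chart.Cls`) and `z₀ ≠ 1` an element of the group generated by the involutions `z r`,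
`r ∈ R`. Then `z₀` lies in `⟨z r : r ∈ S⟩` for a nonempty finite set `S ⊆ R` of pairwise orthogonal roots such that
the `z r`, `r ∈ S`, are independent (`exists_family`): take `S` of minimal cardinality. No root system is used.

* `exists_family` : the combinatorial statement;
* `exists_frame_cls` : the frame (`FrameDef.Frame`) from `Cls` with `K_r ≃ SL₂(F)` subnormal in `C(z r)`;
* `exists_frame`, `exists_frame_of_hyp` : the same for charts.
-/

set_option autoImplicit false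
set_option linter.unusedSectionVars false
set_option linter.dupNamespace false

namespace Cfsg.Agent.OddHalf.NI.FrameMin

open CoxeterSystem Cfsg.Agent.ChevalleyStructure.CoxeterGeom Cfsg.Agent.Tits.Roots Cfsg.Agent.Tits.Core
  Cfsg.Agent.Tits.RootComb Cfsg.Agent.Nodes.Comb Cfsg.Agent.Nodes.Reps Cfsg.Agent.Nodes.BNOf
  Cfsg.Agent.Nodes.RGDLib Cfsg.Agent.Nodes.Chart Cfsg.Agent.Nodes.Coroot Cfsg.Agent.Nodes.Perp
  Cfsg.Agent.Nodes.ZRel

variable {I W Y : Type*} [Fintype I] [DecidableEq I] [Group W] [Fintype W] [Group Y] {M : CoxeterMatrix I}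
  {cs : CoxeterSystem M W} {A : I → I → ℤ} {h : IsCartan M A} {p : ℕ} {T : Subgroup Y} {n : I → Y}
  {X : (I → ℤ) → Subgroup Y} {R : Set (I → ℤ)} {Z : (I → ℤ) → Subgroup Y} {z : (I → ℤ) → Y}

/-- Roots of the same length, not orthogonal and not equal up to sign, generate a root system of type `A₂`. -/
theorem cpr_mul {r s : I → ℤ} (hr : IsRoot cs h r) (hs : IsRoot cs h s)
    (hl : form cs h r r = form cs h s s) (h0 : form cs h r s ≠ 0) (hne : s ≠ r) (hne' : s ≠ -r) :
    cpr cs h s r * cpr cs h r s = 1 := by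
  have h1 := two_form_cpr cs h s hr
  have h2 := two_form_cpr cs h r hs
  have hpos := form_pos cs h hr.ne_zero
  rw [form_comm cs h s r] at h1
  rw [← hl] at h2
  have hcc : cpr cs h s r = cpr cs h r s := by
    have : (cpr cs h s r - cpr cs h r s) * form cs h r r = 0 := by linarith
    rcases mul_eq_zero.1 this with h3 | h3 <;> omega
  set c := cpr cs h s r with hc
  rw [← hcc]
  have hc0 : c ≠ 0 := by
    intro h3; rw [h3, zero_mul] at h1; omega
  -- `v = c r - 2 s`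
  have hv : c • r - (2 : ℤ) • s ≠ 0 := by
    intro h3
    have h4 : (2 : ℤ) • s = c • r := (sub_eq_zero.1 h3).symm
    have h5 : form cs h ((2 : ℤ) • s) ((2 : ℤ) • s) = form cs h (c • r) (c • r) := by rw [h4]
    rw [form_smul_left, form_smul_right, form_smul_left, form_smul_right, ← hl] at h5
    have h6 : (4 - c * c) * form cs h r r = 0 := by linarith
    have h7 : (2 - c) * (2 + c) = 0 := by
      rcases mul_eq_zero.1 h6 with h8 | h8
      · linarith
      · omega
    rcases mul_eq_zero.1 h7 with h8 | h8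
    · apply hne
      have h9 : c = 2 := by omega
      rw [h9] at h4
      exact smul_right_injective (I → ℤ) (show (2 : ℤ) ≠ 0 by norm_num) h4
    · apply hne'
      have h9 : c = -2 := by omega
      rw [h9] at h4
      apply smul_right_injective (I → ℤ) (show (2 : ℤ) ≠ 0 by norm_num)
      show (2 : ℤ) • s = (2 : ℤ) • (-r)
      rw [h4]; module
  have h3 := form_pos cs h hv
  have h4 : form cs h (c • r - (2 : ℤ) • s) (c • r - (2 : ℤ) • s) = (4 - c * c) * form cs h r r := by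
    rw [form_sub_left, form_sub_right, form_sub_right, form_smul_left, form_smul_left, form_smul_left,
      form_smul_left, form_smul_right, form_smul_right, form_smul_right, form_smul_right, ← hl, form_comm cs h s r]
    have : 2 * form cs h r s = c * form cs h r r := h1
    linear_combination (-2 * c) * this
  rw [h4] at h3
  have h5 : 0 < 4 - c * c := pos_of_mul_pos_left h3 hpos.le
  have h6 : -2 < c ∧ c < 2 := ⟨by nlinarith, by nlinarith⟩
  have h7 : c = 1 ∨ c = -1 := by omega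
  rcases h7 with h8 | h8 <;> rw [h8] <;> norm_num

section Cls

variable (C : Cls cs h p T n X R Z z)

include C

theorem closure_le_T {S : Set (I → ℤ)} (hS : S ⊆ R) : Subgroup.closure (z '' S) ≤ T := by
  rw [Subgroup.closure_le]
  rintro _ ⟨r, hr, rfl⟩
  exact C.z_torus r (hS hr)

/-- The group generated by the involutions of `insert r S`. -/
theorem mem_closure_insert {S : Set (I → ℤ)} (hS : S ⊆ R) {r : I → ℤ} (hr : r ∈ R) {x : Y}
    (hx : x ∈ Subgroup.closure (z '' insert r S)) :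
    x ∈ Subgroup.closure (z '' S) ∨ z r * x ∈ Subgroup.closure (z '' S) := by
  set H := Subgroup.closure (z '' S) with hH
  have hcm : ∀ x ∈ H, z r * x = x * z r := fun x hx => C.z_T r hr x (closure_le_T C hS hx)
  have hzz := C.z_sq r hr
  induction hx using Subgroup.closure_induction with
  | mem x hx =>
    obtain ⟨s, hs, rfl⟩ := hx
    rcases hs with rfl | hs
    · right; rw [hzz]; exact one_mem _
    · left; exact Subgroup.subset_closure ⟨s, hs, rfl⟩
  | one => left; exact one_mem _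
  | mul x y _ _ ihx ihy =>
    rcases ihx with ihx | ihx <;> rcases ihy with ihy | ihy
    · left; exact mul_mem ihx ihy
    · right
      have : z r * (x * y) = x * (z r * y) := by rw [← mul_assoc, hcm x ihx, mul_assoc]
      rw [this]; exact mul_mem ihx ihy
    · right; rw [← mul_assoc]; exact mul_mem ihx ihy
    · left
      have h1 := hcm _ ihx
      have h2 : z r * x * (z r * y) = x * y := by
        have h3 : z r * x * z r = x := by
          rw [← h1, ← mul_assoc, hzz, one_mul]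
        rw [← mul_assoc, h3]
      rw [← h2]; exact mul_mem ihx ihy
  | inv x _ ihx =>
    rcases ihx with ihx | ihx
    · left; exact inv_mem ihx
    · right
      have h1 := hcm _ ihx
      have h2 : z r * x⁻¹ = (z r * x)⁻¹ := by
        have h3 : x * z r = z r * x := by
          have h4 : z r * x * z r = x := by rw [← h1, ← mul_assoc, hzz, one_mul]
          calc x * z r = (z r * x * z r) * z r := by rw [h4]
            _ = z r * x * (z r * z r) := by group
            _ = z r * x := by rw [hzz, mul_one]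
        rw [← h3, mul_inv_rev, z_inv' C hr]
      rw [h2]; exact inv_mem ihx

/-- **Independent orthogonal families.** -/
theorem exists_family (hp : p.Prime) (hodd : p ≠ 2) (hu : Uniq R Z z)
    (hlen : ∀ x ∈ R, ∀ y ∈ R, form cs h x x = form cs h y y) {z₀ : Y} (h0 : z₀ ∈ Subgroup.closure (z '' R))
    (h1 : z₀ ≠ 1) :
    ∃ S : Finset (I → ℤ), S.Nonempty ∧ (∀ r ∈ S, r ∈ R) ∧
      (∀ r ∈ S, ∀ s ∈ S, r ≠ s → form cs h r s = 0) ∧
      (∀ r ∈ S, z r ∉ Subgroup.closure (z '' ((S : Set (I → ℤ)) \ {r}))) ∧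
      (∀ S' : Finset (I → ℤ), S' ⊂ S → z₀ ∉ Subgroup.closure (z '' (S' : Set (I → ℤ)))) ∧
      z₀ ∈ Subgroup.closure (z '' (S : Set (I → ℤ))) := by
  classical
  -- a finite set exists
  have hex : ∃ S : Finset (I → ℤ), (∀ r ∈ S, r ∈ R) ∧ z₀ ∈ Subgroup.closure (z '' (S : Set (I → ℤ))) := by
    clear h1
    induction h0 using Subgroup.closure_induction with
    | mem x hx =>
      obtain ⟨s, hs, rfl⟩ := hx
      exact ⟨{s}, by simpa using hs, Subgroup.subset_closure ⟨s, by simp, rfl⟩⟩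
    | one => exact ⟨∅, by simp, one_mem _⟩
    | mul x y _ _ ihx ihy =>
      obtain ⟨S, hS, hx⟩ := ihx
      obtain ⟨S', hS', hy⟩ := ihy
      refine ⟨S ∪ S', ?_, mul_mem ?_ ?_⟩
      · intro r hr
        rcases Finset.mem_union.1 hr with hr | hr
        · exact hS r hr
        · exact hS' r hr
      · exact Subgroup.closure_mono (Set.image_mono (by simp)) hx
      · exact Subgroup.closure_mono (Set.image_mono (by simp)) hy
    | inv x _ ihx =>
      obtain ⟨S, hS, hx⟩ := ihx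
      exact ⟨S, hS, inv_mem hx⟩
  -- minimal cardinality
  let P : ℕ → Prop := fun k => ∃ S : Finset (I → ℤ), S.card = k ∧ (∀ r ∈ S, r ∈ R) ∧
    z₀ ∈ Subgroup.closure (z '' (S : Set (I → ℤ)))
  have hP : ∃ k, P k := by
    obtain ⟨S, hS, hz⟩ := hex
    exact ⟨S.card, S, rfl, hS, hz⟩
  obtain ⟨S, hcard, hSR, hz⟩ := Nat.find_spec hP
  have hmin : ∀ S' : Finset (I → ℤ), (∀ r ∈ S', r ∈ R) → S'.card < S.card →
      z₀ ∉ Subgroup.closure (z '' (S' : Set (I → ℤ))) := by
    intro S' hS' hlt hz'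
    rw [hcard] at hlt
    exact Nat.find_min hP hlt ⟨S', rfl, hS', hz'⟩
  have hmin' : ∀ S' : Finset (I → ℤ), S' ⊂ S → z₀ ∉ Subgroup.closure (z '' (S' : Set (I → ℤ))) := fun S' hS' =>
    hmin S' (fun r hr => hSR r (hS'.1 hr)) (Finset.card_lt_card hS')
  refine ⟨S, ?_, hSR, ?_, ?_, hmin', hz⟩
  · -- nonempty
    rw [Finset.nonempty_iff_ne_empty]
    rintro rfl
    apply h1
    simpa using hz
  · -- orthogonal
    intro r hr s hs hrs
    by_contra hf
    have hrR := hSR r hr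
    have hsR := hSR s hs
    set S₀ := (S.erase r).erase s with hS₀
    have hs' : s ∈ S.erase r := Finset.mem_erase.2 ⟨Ne.symm hrs, hs⟩
    have hS₀R : ((S₀ : Finset (I → ℤ)) : Set (I → ℤ)) ⊆ R := fun x hx =>
      hSR x (Finset.mem_of_mem_erase (Finset.mem_of_mem_erase (Finset.mem_coe.1 hx)))
    have hS₁R : ((S.erase r : Finset (I → ℤ)) : Set (I → ℤ)) ⊆ R := fun x hx =>
      hSR x (Finset.mem_of_mem_erase (Finset.mem_coe.1 hx))
    have hcard₀ : S₀.card + 2 = S.card := by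
      have h2 := Finset.card_erase_add_one hr
      have h3 := Finset.card_erase_add_one hs'
      rw [← hS₀] at h3
      omega
    have hins : (S : Set (I → ℤ)) = insert r ((S.erase r : Finset (I → ℤ)) : Set (I → ℤ)) := by
      rw [← Finset.coe_insert, Finset.insert_erase hr]
    have hins' : ((S.erase r : Finset (I → ℤ)) : Set (I → ℤ)) = insert s (S₀ : Set (I → ℤ)) := by
      rw [← Finset.coe_insert, hS₀, Finset.insert_erase hs']
    -- `z₀` involves `z r` and `z s`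
    have h2 : z r * z₀ ∈ Subgroup.closure (z '' ((S.erase r : Finset (I → ℤ)) : Set (I → ℤ))) := by
      rw [hins] at hz
      rcases mem_closure_insert C hS₁R hrR hz with h3 | h3
      · exact absurd h3 (hmin' _ (Finset.erase_ssubset hr))
      · exact h3
    have h3 : z s * (z r * z₀) ∈ Subgroup.closure (z '' (S₀ : Set (I → ℤ))) ∨
        z r * z₀ ∈ Subgroup.closure (z '' (S₀ : Set (I → ℤ))) := by
      rw [hins'] at h2
      exact (mem_closure_insert C hS₀R hsR h2).symm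
    -- in each case a smaller set
    have key : ∀ x ∈ R, z x * z₀ ∈ Subgroup.closure (z '' (S₀ : Set (I → ℤ))) → False := by
      intro x hx h4
      refine hmin (insert x S₀) ?_ ?_ ?_
      · intro y hy
        rcases Finset.mem_insert.1 hy with rfl | hy
        · exact hx
        · exact hS₀R (Finset.mem_coe.2 hy)
      · have := Finset.card_insert_le x S₀
        omega
      · have h5 : z₀ = z x * (z x * z₀) := by rw [← mul_assoc, C.z_sq x hx, one_mul]
        rw [h5, Finset.coe_insert]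
        refine mul_mem (Subgroup.subset_closure ⟨x, Set.mem_insert _ _, rfl⟩) ?_
        exact Subgroup.closure_mono (Set.image_mono (Set.subset_insert _ _)) h4
    rcases h3 with h3 | h3
    · by_cases hneg : s = -r
      · -- `z s * z r = 1`
        rw [hneg, C.z_neg r hrR, ← mul_assoc, C.z_sq r hrR, one_mul] at h3
        refine hmin S₀ (fun x hx => hS₀R (Finset.mem_coe.2 hx)) (by omega) h3
      · have h4 := cpr_mul (C.root r hrR) (C.root s hsR) (hlen r hrR s hsR) hf (Ne.symm hrs) hneg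
        have h5 := z_refl C hp hodd hu hrR hsR (Ne.symm hrs) hneg h4
        have h6 := refl_mem C hsR (C.root r hrR)
        refine key _ h6 ?_
        rw [h5, z_comm C hrR hsR, mul_assoc]
        exact h3
    · exact key r hrR h3
  · -- independent
    intro r hr hzr
    have hrR := hSR r hr
    have hS₁R : ((S.erase r : Finset (I → ℤ)) : Set (I → ℤ)) ⊆ R := fun x hx =>
      hSR x (Finset.mem_of_mem_erase (Finset.mem_coe.1 hx))
    have hins : (S : Set (I → ℤ)) = insert r ((S.erase r : Finset (I → ℤ)) : Set (I → ℤ)) := by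
      rw [← Finset.coe_insert, Finset.insert_erase hr]
    rw [← Finset.coe_erase] at hzr
    apply hmin' _ (Finset.erase_ssubset hr)
    rw [hins] at hz
    rcases mem_closure_insert C hS₁R hrR hz with h3 | h3
    · exact h3
    · have h5 : z₀ = z r * (z r * z₀) := by rw [← mul_assoc, C.z_sq r hrR, one_mul]
      rw [h5]
      exact mul_mem hzr h3

/-! ### The frame of `Cls` -/

/-- All classical roots have the same length if they are conjugate. -/
theorem len_of_trans (trans : ∀ r ∈ R, ∀ s ∈ R, ∃ w, s = rep cs h w r) :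
    ∀ x ∈ R, ∀ y ∈ R, form cs h x x = form cs h y y := by
  intro x hx y hy
  obtain ⟨w, rfl⟩ := trans x hx y hy
  rw [form_rep]

/-- If one of the involutions is not trivial then none is. -/
theorem z_ne_one (trans : ∀ r ∈ R, ∀ s ∈ R, ∃ w, s = rep cs h w r) {r : I → ℤ} (hr : r ∈ R) (h1 : z r ≠ 1)
    {s : I → ℤ} (hs : s ∈ R) : z s ≠ 1 := by
  obtain ⟨w, rfl⟩ := trans r hr s hs
  obtain ⟨g, hg⟩ := exists_rp cs C.rgd.nsys w
  rw [← Nodes.ClsNorm.conj_z C hg hr]
  intro h2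
  apply h1
  have h3 : z r = g⁻¹ * (g * z r * g⁻¹) * g := by group
  rw [h3, h2]; group

omit C in
theorem exists_z_ne {z₀ : Y} (h0 : z₀ ∈ Subgroup.closure (z '' R)) (h1 : z₀ ≠ 1) : ∃ r ∈ R, z r ≠ 1 := by
  by_contra hcon
  push Not at hcon
  apply h1
  have : Subgroup.closure (z '' R) ≤ ⊥ := by
    rw [Subgroup.closure_le]
    rintro _ ⟨r, hr, rfl⟩
    rw [hcon r hr]
    exact one_mem _
  exact Subgroup.mem_bot.1 (this h0)

/-- `z r` is the only involution of `K_r ≃ SL₂(F)`. -/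
theorem uniq_of_sl {F : Type} [Field F] [Fintype F] (ho : Odd (Fintype.card F))
    (sl : ∀ r ∈ R, Nonempty (Matrix.SpecialLinearGroup (Fin 2) F ≃* ↥(Z r ⊔ Z (-r))))
    (hz : ∀ r ∈ R, z r ≠ 1) : Uniq R Z z := by
  intro r hr x hx hxx hx1
  obtain ⟨φ⟩ := sl r hr
  have h2 : (2 : F) ≠ 0 := by
    intro h0
    have h3 : CharP F 2 := CharTwo.of_one_ne_zero_of_two_eq_zero one_ne_zero h0
    have h4 := FiniteField.even_card_iff_char_two.1 (ringChar.eq F 2)
    rw [Nat.odd_iff] at ho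
    omega
  have key : ∀ y (hy : y ∈ Z r ⊔ Z (-r)), y * y = 1 → y ≠ 1 → φ.symm ⟨y, hy⟩ = -1 := by
    intro y hy hyy hy1
    apply Cfsg.Agent.LieClassical.SLTwoSylowTwo.eq_neg_one_of_sq h2
    · intro h3
      apply hy1
      have h4 : (⟨y, hy⟩ : ↥(Z r ⊔ Z (-r))) = 1 := by
        rw [← φ.apply_symm_apply ⟨y, hy⟩, h3, map_one]
      exact congrArg Subtype.val h4
    · rw [pow_two, ← map_mul]
      have h4 : (⟨y, hy⟩ * ⟨y, hy⟩ : ↥(Z r ⊔ Z (-r))) = 1 := Subtype.ext hyy
      rw [h4, map_one]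
  have h3 := key x hx hxx hx1
  have h4 := key (z r) (C.z_mem r hr) (C.z_sq r hr) (hz r hr)
  have h5 := φ.symm.injective (h3.trans h4.symm)
  exact congrArg Subtype.val h5

/-- `z r` centralises `K_r` -/
theorem le_centralizer {r : I → ℤ} (hr : r ∈ R) : Z r ⊔ Z (-r) ≤ Subgroup.centralizer {z r} := by
  refine sup_le ?_ ?_
  · intro b hb
    rw [Subgroup.mem_centralizer_singleton_iff]
    exact (C.z_cent r hr b hb).symm
  · intro b hb
    rw [Subgroup.mem_centralizer_singleton_iff]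
    have := C.z_cent (-r) (neg_mem C hr) b hb
    rw [C.z_neg r hr] at this
    exact this.symm

/-- **The frame of `Cls`**: any nontrivial element of `⟨z r : r ∈ R⟩` lies in a frame. -/
theorem exists_frame_cls (hp : p.Prime) (hodd : p ≠ 2) (trans : ∀ r ∈ R, ∀ s ∈ R, ∃ w, s = rep cs h w r)
    {F : Type} [Field F] [Fintype F] (ho : Odd (Fintype.card F)) (hc : 3 < Fintype.card F)
    (sl : ∀ r ∈ R, Nonempty (Matrix.SpecialLinearGroup (Fin 2) F ≃* ↥(Z r ⊔ Z (-r))))
    (sub : ∀ r ∈ R, z r ≠ 1 → ((Z r ⊔ Z (-r)).subgroupOf (Subgroup.centralizer {z r})).IsSubnormal)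
    {z₀ : Y} (h0 : z₀ ∈ Subgroup.closure (z '' R)) (h1 : z₀ ≠ 1) : Nonempty (Frame Y z₀) := by
  classical
  obtain ⟨r₀, hr₀, hz₀⟩ := exists_z_ne h0 h1
  have hz1 : ∀ r ∈ R, z r ≠ 1 := fun r hr => z_ne_one C trans hr₀ hz₀ hr
  obtain ⟨S, hne, hSR, horth, hind, -, hgen⟩ := exists_family C hp hodd
    (uniq_of_sl C ho sl hz1) (len_of_trans C trans) h0 h1
  let e : Fin S.card ≃ S := S.equivFin.symm
  have hR : ∀ i, (e i : I → ℤ) ∈ R := fun i => hSR _ (e i).2
  have hdist : ∀ r ∈ S, ∀ s ∈ S, r ≠ s → z r ≠ z s := by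
    intro r hr s hs hrs h2
    apply hind r hr
    rw [h2]
    exact Subgroup.subset_closure ⟨s, ⟨hs, fun h3 => hrs (Set.mem_singleton_iff.1 h3).symm⟩, rfl⟩
  have hthree : ∀ r ∈ S, ∀ s ∈ S, ∀ t ∈ S, r ≠ t → s ≠ t → z r * z s ≠ z t := by
    intro r hr s hs t ht hrt hst h2
    apply hind t ht
    rw [← h2]
    exact mul_mem (Subgroup.subset_closure ⟨r, ⟨hr, fun h3 => hrt (Set.mem_singleton_iff.1 h3)⟩, rfl⟩)
      (Subgroup.subset_closure ⟨s, ⟨hs, fun h3 => hst (Set.mem_singleton_iff.1 h3)⟩, rfl⟩)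
  have hval : ∀ i j, i ≠ j → (e i : I → ℤ) ≠ e j := fun i j hij h2 => hij (e.injective (Subtype.ext h2))
  refine ⟨{ m := S.card, pos := hne.card_pos, J := fun i => Z (e i) ⊔ Z (-(e i : I → ℤ)),
            y := fun i => z (e i), F := F, odd := ho, card := hc, iso := ?_, mem := ?_, ord := ?_, le := ?_,
            sub := ?_, comm := ?_, inj := ?_, three := ?_, gen := ?_ }⟩
  · intro i
    obtain ⟨φ⟩ := sl _ (hR i)
    exact ⟨φ.symm⟩
  · exact fun i => C.z_mem _ (hR i)
  · intro i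
    refine orderOf_eq_prime ?_ (hz1 _ (hR i))
    rw [pow_two]; exact C.z_sq _ (hR i)
  · exact fun i => le_centralizer C (hR i)
  · exact fun i => sub _ (hR i) (hz1 _ (hR i))
  · intro i j hij
    exact (cm_iff C hp hodd (hR i) (hR j)).2 (horth _ (e i).2 _ (e j).2 (hval i j hij))
  · intro i j hij
    by_contra h2
    exact hdist _ (e i).2 _ (e j).2 (hval i j h2) hij
  · intro i j k _ hik hjk
    exact hthree _ (e i).2 _ (e j).2 _ (e k).2 (hval i k hik) (hval j k hjk)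
  · refine Subgroup.closure_mono ?_ hgen
    rintro _ ⟨r, hr, rfl⟩
    exact ⟨e.symm ⟨r, hr⟩, by simp⟩

end Cls

/-! ### The frame of a chart -/

section Chart

variable {N : Type*} [Group N] {Om : Set (Subgroup N)} {p : ℕ} {L : Subgroup N} (c : Chart Om p L)

/-- **The frame of a chart**: any nontrivial element of `⟨z r : r ∈ R⟩` lies in a frame. -/
theorem exists_frame {F : Type} [Field F] [Fintype F] (ho : Odd (Fintype.card F)) (hc : 3 < Fintype.card F)
    (sl : ∀ r ∈ c.R, Nonempty (Matrix.SpecialLinearGroup (Fin 2) F ≃* ↥(c.Z r ⊔ c.Z (-r))))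
    (sub : ∀ r ∈ c.R, c.z r ≠ 1 → ((c.Z r ⊔ c.Z (-r)).subgroupOf (Subgroup.centralizer {c.z r})).IsSubnormal)
    {z₀ : N} (h0 : z₀ ∈ Subgroup.closure (c.z '' c.R)) (h1 : z₀ ≠ 1) : Nonempty (Frame N z₀) :=
  exists_frame_cls c.cls c.prime c.odd c.trans ho hc sl sub h0 h1

/-- The same with the class of a `Cit.Hyp` (the groups of THEOREM T). -/
theorem exists_frame_of_hyp [Finite N] (H : Cit.Hyp Om) {F : Type} [Field F] [Fintype F]
    (ho : Odd (Fintype.card F)) (hc : 3 < Fintype.card F)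
    (sl : ∀ r ∈ c.R, Nonempty (Matrix.SpecialLinearGroup (Fin 2) F ≃* ↥(c.Z r ⊔ c.Z (-r))))
    {z₀ : N} (h0 : z₀ ∈ Subgroup.closure (c.z '' c.R)) (h1 : z₀ ≠ 1) : Nonempty (Frame N z₀) := by
  refine exists_frame c ho hc sl (fun r hr hz => ?_) h0 h1
  have h2 := H.eq_zz (c.om r hr) (c.cls.z_mem r hr) (c.cls.z_sq r hr) hz
  rw [h2]
  exact H.sub _ (c.om r hr)

end Chart

end Cfsg.Agent.OddHalf.NI.FrameMin
end

-- part: OddHalf/NI/ClsFrame
section
/-!
# Frames from `Cls` (node NI, (T'); helper598)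

* `subnormal` : `K_r = ⟨Z r, Z (-r)⟩` is subnormal in `C(z r)` (from `LongSL.main`).
* `frame_of_cls` : `FrameMin.exists_frame` (helper643) for a `Cls` whose root groups generate the group.
-/

set_option autoImplicit false
set_option linter.unusedSectionVars false
set_option linter.dupNamespace false

namespace Cfsg.Agent.OddHalf.NI.ClsFrame

open CoxeterSystem Cfsg.Agent.ChevalleyStructure.CoxeterGeom Cfsg.Agent.Tits.Roots Cfsg.Agent.Tits.Core
  Cfsg.Agent.Tits.RootComb Cfsg.Agent.Nodes.Comb Cfsg.Agent.Nodes.Reps Cfsg.Agent.Nodes.BNOf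
  Cfsg.Agent.Nodes.RGDLib Cfsg.Agent.Nodes.Chart Cfsg.Agent.Nodes.Coroot Cfsg.Agent.Nodes.Perp
  Cfsg.Agent.Nodes.ZRel Cfsg.Agent.Nodes.Bruhat Cfsg.Agent.OddHalf.NI.FrameMin

variable {I W Y : Type*} [Fintype I] [DecidableEq I] [Group W] [Fintype W] [Group Y] {M : CoxeterMatrix I}
  {cs : CoxeterSystem M W} {A : I → I → ℤ} {h : IsCartan M A} {p : ℕ} {T : Subgroup Y} {n : I → Y}
  {X : (I → ℤ) → Subgroup Y} {R : Set (I → ℤ)} {Z : (I → ℤ) → Subgroup Y} {z : (I → ℤ) → Y}

/-- `K_r` is subnormal in `C(z r)`. -/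
theorem subnormal (C : Cls cs h p T n X R Z z) (hp2 : Odd p) (hG : GG cs h T X = ⊤) {r : I → ℤ} (hr : r ∈ R) :
    ((Z r ⊔ Z (-r)).subgroupOf (Subgroup.centralizer ({z r} : Set Y))).IsSubnormal := by
  have hfin : Finite W := inferInstance
  rw [← LongSL.JX_eq C hp2 hr]
  refine LongSL.main C.rgd (C.z_torus r hr) (C.root r hr) ?_ hG
  intro x hx h1 h2 u hu v hv
  obtain ⟨hu, huj⟩ := LongSL.mem_ZX.1 hu
  rw [LongSL.JX_eq C hp2 hr] at hv
  by_cases h3 : form cs h x r = 0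
  · have h4 : ∀ v ∈ Z r, u * v = v * u := fun v hv => C.cent r hr x hx h3.ge u hu v hv
    have h5 : ∀ v ∈ Z (-r), u * v = v * u := fun v hv =>
      C.cent (-r) (LongSL.neg_mem_R C hr) x hx (by rw [form_neg_right, h3, neg_zero]) u hu v hv
    have h6 : Z r ⊔ Z (-r) ≤ Subgroup.centralizer ({u} : Set Y) := by
      refine sup_le ?_ ?_
      · intro v hv
        rw [Subgroup.mem_centralizer_iff]; rintro _ rfl; exact h4 v hv
      · intro v hv
        rw [Subgroup.mem_centralizer_iff]; rintro _ rfl; exact h5 v hv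
    exact Subgroup.mem_centralizer_iff.1 (h6 hv) u rfl
  · -- `u` is centralised and inverted by `z r`
    have h4 := C.z_inv r hr x hx h1 h2 h3 u hu
    rw [huj, mul_assoc, C.z_sq r hr, mul_one] at h4
    obtain ⟨k, hk⟩ := C.rgd.pgrp' hx ⟨u, hu⟩
    have h5 : u ^ p ^ k = 1 := congrArg Subtype.val hk
    obtain ⟨m, hm⟩ : ∃ m, p ^ k = 2 * m + 1 := hp2.pow
    have h6 : u * u = 1 := by nth_rw 1 [h4]; exact inv_mul_cancel u
    have h7 : u = 1 := by
      rw [hm, pow_succ, pow_mul, pow_two, h6, one_pow, one_mul] at h5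
      exact h5
    rw [h7, one_mul, mul_one]

section

variable (C : Cls cs h p T n X R Z z) (tr : ∀ r ∈ R, ∀ s ∈ R, ∃ w, s = rep cs h w r)

include C tr

theorem len : ∀ x ∈ R, ∀ y ∈ R, form cs h x x = form cs h y y := by
  intro x hx y hy
  obtain ⟨w, rfl⟩ := tr x hx y hy
  rw [form_rep]

theorem z_ne {r : I → ℤ} (hr : r ∈ R) (h1 : z r ≠ 1) {s : I → ℤ} (hs : s ∈ R) : z s ≠ 1 := by
  obtain ⟨w, rfl⟩ := tr r hr s hs
  obtain ⟨g, hg⟩ := exists_rp cs C.rgd.nsys w
  rw [← Nodes.ClsNorm.conj_z C hg hr]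
  intro h2
  apply h1
  have h3 : z r = g⁻¹ * (g * z r * g⁻¹) * g := by group
  rw [h3, h2]; group

omit C tr in
theorem exists_z_ne {z₀ : Y} (h0 : z₀ ∈ Subgroup.closure (z '' R)) (h1 : z₀ ≠ 1) :
    ∃ r ∈ R, z r ≠ 1 := by
  by_contra hcon
  push Not at hcon
  apply h1
  have : Subgroup.closure (z '' R) ≤ ⊥ := by
    rw [Subgroup.closure_le]
    rintro _ ⟨r, hr, rfl⟩
    rw [hcon r hr]
    exact one_mem _
  exact Subgroup.mem_bot.1 (this h0)

omit tr in
theorem uniq {F : Type} [Field F] [Fintype F] (ho : Odd (Fintype.card F))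
    (sl : ∀ r ∈ R, Nonempty (Matrix.SpecialLinearGroup (Fin 2) F ≃* ↥(Z r ⊔ Z (-r))))
    (hz : ∀ r ∈ R, z r ≠ 1) : Uniq R Z z := by
  intro r hr x hx hxx hx1
  obtain ⟨φ⟩ := sl r hr
  have h2 : (2 : F) ≠ 0 := LongSL.two_ne_of_odd ho
  have key : ∀ y (hy : y ∈ Z r ⊔ Z (-r)), y * y = 1 → y ≠ 1 → φ.symm ⟨y, hy⟩ = -1 := by
    intro y hy hyy hy1
    apply Cfsg.Agent.LieClassical.SLTwoSylowTwo.eq_neg_one_of_sq h2
    · intro h3
      apply hy1
      have h4 : (⟨y, hy⟩ : ↥(Z r ⊔ Z (-r))) = 1 := by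
        rw [← φ.apply_symm_apply ⟨y, hy⟩, h3, map_one]
      exact congrArg Subtype.val h4
    · rw [pow_two, ← map_mul]
      have h4 : (⟨y, hy⟩ * ⟨y, hy⟩ : ↥(Z r ⊔ Z (-r))) = 1 := Subtype.ext hyy
      rw [h4, map_one]
  have h3 := key x hx hxx hx1
  have h4 := key (z r) (C.z_mem r hr) (C.z_sq r hr) (hz r hr)
  have h5 := φ.symm.injective (h3.trans h4.symm)
  exact congrArg Subtype.val h5

omit tr in
theorem le_centralizer {r : I → ℤ} (hr : r ∈ R) : Z r ⊔ Z (-r) ≤ Subgroup.centralizer {z r} := by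
  refine sup_le ?_ ?_
  · intro b hb
    rw [Subgroup.mem_centralizer_singleton_iff]
    exact (C.z_cent r hr b hb).symm
  · intro b hb
    rw [Subgroup.mem_centralizer_singleton_iff]
    have := C.z_cent (-r) (LongSL.neg_mem_R C hr) b hb
    rw [C.z_neg r hr] at this
    exact this.symm

/-- **The frame of a `Cls`**: any nontrivial element of `⟨z r : r ∈ R⟩` lies in a frame. -/
theorem frame_of_cls (hp : p.Prime) (hp2 : p ≠ 2) (hG : G1 cs h X = ⊤) {F : Type} [Field F] [Fintype F]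
    (ho : Odd (Fintype.card F)) (hc : 3 < Fintype.card F)
    (sl : ∀ r ∈ R, Nonempty (Matrix.SpecialLinearGroup (Fin 2) F ≃* ↥(Z r ⊔ Z (-r))))
    {z₀ : Y} (h0 : z₀ ∈ Subgroup.closure (z '' R)) (h1 : z₀ ≠ 1) : Nonempty (Frame Y z₀) := by
  classical
  have hG' : GG cs h T X = ⊤ := by
    rw [eq_top_iff, ← hG]
    exact le_sup_right
  obtain ⟨r₀, hr₀, hz₀⟩ := exists_z_ne h0 h1
  have hz1 : ∀ r ∈ R, z r ≠ 1 := fun r hr => z_ne C tr hr₀ hz₀ hr
  obtain ⟨S, hne, hSR, horth, hind, -, hgen⟩ := exists_family C hp hp2 (uniq C ho sl hz1) (len C tr) h0 h1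
  let e : Fin S.card ≃ S := S.equivFin.symm
  have hR : ∀ i, (e i : I → ℤ) ∈ R := fun i => hSR _ (e i).2
  have hdist : ∀ r ∈ S, ∀ s ∈ S, r ≠ s → z r ≠ z s := by
    intro r hr s hs hrs h2
    apply hind r hr
    rw [h2]
    exact Subgroup.subset_closure ⟨s, ⟨hs, fun h3 => hrs (Set.mem_singleton_iff.1 h3).symm⟩, rfl⟩
  have hthree : ∀ r ∈ S, ∀ s ∈ S, ∀ t ∈ S, r ≠ t → s ≠ t → z r * z s ≠ z t := by
    intro r hr s hs t ht hrt hst h2
    apply hind t ht
    rw [← h2]
    exact mul_mem (Subgroup.subset_closure ⟨r, ⟨hr, fun h3 => hrt (Set.mem_singleton_iff.1 h3)⟩, rfl⟩)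
      (Subgroup.subset_closure ⟨s, ⟨hs, fun h3 => hst (Set.mem_singleton_iff.1 h3)⟩, rfl⟩)
  have hval : ∀ i j, i ≠ j → (e i : I → ℤ) ≠ e j := fun i j hij h2 => hij (e.injective (Subtype.ext h2))
  refine ⟨{ m := S.card, pos := hne.card_pos, J := fun i => Z (e i) ⊔ Z (-(e i : I → ℤ)),
            y := fun i => z (e i), F := F, odd := ho, card := hc, iso := ?_, mem := ?_, ord := ?_, le := ?_,
            sub := ?_, comm := ?_, inj := ?_, three := ?_, gen := ?_ }⟩
  · intro i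
    obtain ⟨φ⟩ := sl _ (hR i)
    exact ⟨φ.symm⟩
  · exact fun i => C.z_mem _ (hR i)
  · intro i
    refine orderOf_eq_prime ?_ (hz1 _ (hR i))
    rw [pow_two]; exact C.z_sq _ (hR i)
  · exact fun i => le_centralizer C (hR i)
  · exact fun i => subnormal C (hp.odd_of_ne_two hp2) hG' (hR i)
  · intro i j hij
    exact (cm_iff C hp hp2 (hR i) (hR j)).2 (horth _ (e i).2 _ (e j).2 (hval i j hij))
  · intro i j hij
    by_contra h2
    exact hdist _ (e i).2 _ (e j).2 (hval i j h2) hij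
  · intro i j k _ hik hjk
    exact hthree _ (e i).2 _ (e j).2 _ (e k).2 (hval i k hik) (hval j k hjk)
  · refine Subgroup.closure_mono ?_ hgen
    rintro _ ⟨r, hr, rfl⟩
    exact ⟨e.symm ⟨r, hr⟩, by simp⟩

end

end Cfsg.Agent.OddHalf.NI.ClsFrame
end

-- part: OddHalf/NI/InvClosure
section
/-!
# (INV): the involutions `h_i(-1)` lie in `⟨z r : r ∈ R⟩` (node NI, (T'); helper598)

`s : SL(2,F) →* Y` parametrises the rank one group of the node `i` of a `Cls`. For every `r ∈ R`, `r ≠ ± α_i`, not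
orthogonal to `α_i`: `s(-1) = z r * z (s_i r)`.

* `neg_one_eq`, `neg_one_mem`;
* `pm_mem` : `t ^ 2 = 1 → Th t ∈ ⟨z r : r ∈ R⟩`.
-/

set_option autoImplicit false
set_option linter.unusedSectionVars false
set_option linter.dupNamespace false

namespace Cfsg.Agent.OddHalf.NI.InvClosure

open CoxeterSystem Cfsg.Agent.ChevalleyStructure.CoxeterGeom Cfsg.Agent.Tits.Roots Cfsg.Agent.Tits.Core
  Cfsg.Agent.Tits.RootComb Cfsg.Agent.Nodes.Comb Cfsg.Agent.Nodes.Reps Cfsg.Agent.Nodes.BNOf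
  Cfsg.Agent.Nodes.RGDLib Cfsg.Agent.Nodes.Chart
open Matrix

variable {I W Y : Type*} [Fintype I] [DecidableEq I] [Group W] [Fintype W] [Group Y] {M : CoxeterMatrix I}
  {cs : CoxeterSystem M W} {A : I → I → ℤ} {h : IsCartan M A} {p : ℕ} {T : Subgroup Y} {n : I → Y}
  {X : (I → ℤ) → Subgroup Y} {R : Set (I → ℤ)} {Z : (I → ℤ) → Subgroup Y} {z : (I → ℤ) → Y}

/-- the matrices -/
def u1 (F : Type*) [Field F] : SpecialLinearGroup (Fin 2) F := ⟨!![1, 1; 0, 1], by simp [det_fin_two]⟩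

def l1 (F : Type*) [Field F] : SpecialLinearGroup (Fin 2) F := ⟨!![1, 0; -1, 1], by simp [det_fin_two]⟩

def w1 (F : Type*) [Field F] : SpecialLinearGroup (Fin 2) F := ⟨!![0, 1; -1, 0], by simp [det_fin_two]⟩

theorem w1_eq (F : Type*) [Field F] : w1 F = u1 F * l1 F * u1 F := by
  apply Subtype.ext
  show !![0, 1; -1, 0] = !![1, 1; 0, 1] * !![1, 0; -1, 1] * !![1, 1; (0 : F), 1]
  simp

theorem w1_sq (F : Type*) [Field F] : w1 F * w1 F = -1 := by
  apply Subtype.ext
  show !![0, 1; -1, 0] * !![0, 1; -1, (0 : F)] = -1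
  rw [mul_fin_two]
  ext i j
  fin_cases i <;> fin_cases j <;> simp

theorem neg_one_eq (C : Cls cs h p T n X R Z z) {i : I} {F : Type*} [Field F]
    (s : SpecialLinearGroup (Fin 2) F →* Y) (hup : s (u1 F) ∈ X (sr i)) (hlo : s (l1 F) ∈ X (-sr i))
    (hw : ∃ t ∈ T, s (w1 F) = t * n i) {r : I → ℤ} (hr : r ∈ R) (h1 : r ≠ sr i) (h2 : r ≠ -sr i)
    (h3 : form cs h (sr i) r ≠ 0) : s (-1) = z r * z (rep cs h (cs.simple i) r) := by
  obtain ⟨t, ht, hwt⟩ := hw
  have hzz := C.z_sq r hr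
  have hr' := C.act r hr (cs.simple i)
  have e1 : s (w1 F) * z r * (s (w1 F))⁻¹ = z (rep cs h (cs.simple i) r) := by
    rw [hwt]
    have h4 := C.z_conj i r hr
    have h5 := C.z_T _ hr' t ht
    calc t * n i * z r * (t * n i)⁻¹ = t * (n i * z r * (n i)⁻¹) * t⁻¹ := by group
      _ = t * z (rep cs h (cs.simple i) r) * t⁻¹ := by rw [h4]
      _ = z (rep cs h (cs.simple i) r) := by rw [← h5, mul_inv_cancel_right]
  have hinv : ∀ x, x = sr i ∨ x = -sr i → ∀ a ∈ X x, z r * a * z r = a⁻¹ := by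
    rintro x (rfl | rfl) a ha
    · exact C.z_inv r hr _ (isRoot_sr cs h i) (Ne.symm h1) (fun h => h2 (by rw [h, neg_neg])) h3 a ha
    · refine C.z_inv r hr _ (isRoot_sr cs h i).neg (Ne.symm h2) (fun h => h1 (neg_injective h).symm) ?_ a ha
      rw [form_neg_left]
      exact neg_ne_zero.2 h3
  have e2 : z r * s (w1 F) * z r = (s (w1 F))⁻¹ := by
    rw [w1_eq, map_mul, map_mul]
    have h4 := hinv _ (Or.inl rfl) _ hup
    have h5 := hinv _ (Or.inr rfl) _ hlo
    calc z r * (s (u1 F) * s (l1 F) * s (u1 F)) * z r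
        = (z r * s (u1 F) * z r) * (z r * z r)⁻¹ * (z r * s (l1 F) * z r) * (z r * z r)⁻¹ *
          (z r * s (u1 F) * z r) := by group
      _ = (s (u1 F) * s (l1 F) * s (u1 F))⁻¹ := by rw [h4, h5, hzz]; group
  rw [← w1_sq, map_mul, ← e1]
  have e3 : z r * (s (w1 F) * z r * (s (w1 F))⁻¹) = (s (w1 F))⁻¹ * (s (w1 F))⁻¹ := by
    rw [← e2]; group
  -- `s(w)² = s(w)⁻²`
  have e4 : (s (w1 F) * s (w1 F)) * (s (w1 F) * s (w1 F)) = 1 := by
    rw [← map_mul, w1_sq, ← map_mul, neg_mul_neg, one_mul, map_one]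
  rw [e3, ← _root_.mul_inv_rev]
  exact eq_inv_of_mul_eq_one_left e4

theorem neg_one_mem (C : Cls cs h p T n X R Z z) {i : I} {F : Type*} [Field F]
    (s : SpecialLinearGroup (Fin 2) F →* Y) (hup : s (u1 F) ∈ X (sr i)) (hlo : s (l1 F) ∈ X (-sr i))
    (hw : ∃ t ∈ T, s (w1 F) = t * n i) (hr : ∃ r ∈ R, r ≠ sr i ∧ r ≠ -sr i ∧ form cs h (sr i) r ≠ 0) :
    s (-1) ∈ Subgroup.closure (z '' R) := by
  obtain ⟨r, hr, h1, h2, h3⟩ := hr
  rw [neg_one_eq C s hup hlo hw hr h1 h2 h3]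
  exact mul_mem (Subgroup.subset_closure ⟨r, hr, rfl⟩)
    (Subgroup.subset_closure ⟨_, C.act r hr (cs.simple i), rfl⟩)

/-- If the `h_i(-1)` lie in `H` then so do all `Th t` with `t ^ 2 = 1`. -/
theorem pm_mem {Fi : I → Type*} [∀ i, Field (Fi i)] (Th : (∀ i, (Fi i)ˣ) →* Y) {H : Subgroup Y}
    (hH : ∀ i, Th (Pi.mulSingle i (-1)) ∈ H) {t : ∀ i, (Fi i)ˣ} (ht : t ^ 2 = 1) : Th t ∈ H := by
  have h1 : t ∈ H.comap Th := by
    rw [← Finset.univ_prod_mulSingle t]
    refine prod_mem fun i _ => ?_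
    have h2 : (t i) ^ 2 = 1 := congrFun ht i
    have h3 : t i = 1 ∨ t i = -1 := by
      have h4 : ((t i : Fi i)) ^ 2 = 1 := by rw [← Units.val_pow_eq_pow_val, h2, Units.val_one]
      have h5 : ((t i : Fi i) - 1) * ((t i : Fi i) + 1) = 0 := by linear_combination h4
      rcases mul_eq_zero.1 h5 with h5 | h5
      · exact Or.inl (Units.ext (sub_eq_zero.1 h5))
      · exact Or.inr (Units.ext (by rw [Units.val_neg, Units.val_one]; exact eq_neg_of_add_eq_zero_left h5))
    rcases h3 with h3 | h3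
    · rw [h3, Pi.mulSingle_one]; exact one_mem _
    · rw [h3]; exact hH i
  exact h1

end Cfsg.Agent.OddHalf.NI.InvClosure
end

-- part: OddHalf/NI/CoverFrame
section
/-!
# Frames in covers (node NI, (T'); helper598)

`L` a group with a `Cls` (root groups generating `L`, `K_r ≃ SL₂(F)`), `α : M →* L` a central extension by a 2-group,
`M` generated by the lifted root groups, `φ : M →* N` onto with central kernel. If `z₀ ∈ N` is the image of an element
`Th t`, `t ^ 2 = 1`, of the torus of `M`, then `N` has a frame for `z₀`.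

* `inj_lift` : the members `K_r` lift isomorphically;
* `frame_of_mem` : `φ m` for `m ∈ ⟨z_M r⟩`;
* `frame_of_cover` : the main theorem.
-/

set_option autoImplicit false
set_option linter.unusedSectionVars false
set_option linter.dupNamespace false
set_option linter.style.haveILetI false

namespace Cfsg.Agent.OddHalf.NI.CoverFrame

open CoxeterSystem Cfsg.Agent.ChevalleyStructure.CoxeterGeom Cfsg.Agent.Tits.Roots Cfsg.Agent.Tits.Core
  Cfsg.Agent.Tits.RootComb Cfsg.Agent.Nodes.Comb Cfsg.Agent.Nodes.Reps Cfsg.Agent.Nodes.BNOf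
  Cfsg.Agent.Nodes.RGDLib Cfsg.Agent.Nodes.Chart Cfsg.Agent.Nodes.RGDLift
open Matrix (SpecialLinearGroup)

/-- `2`-group kernels have order prime to the odd prime `p` -/
theorem coprime_ker {Y Y' : Type*} [Group Y] [Group Y'] [Finite Y] {f : Y →* Y'} (h2 : IsPGroup 2 f.ker) {p : ℕ}
    (hp : p.Prime) (hp2 : p ≠ 2) : (Nat.card f.ker).Coprime p := by
  have : Fact (Nat.Prime 2) := ⟨Nat.prime_two⟩
  obtain ⟨k, hk⟩ := IsPGroup.iff_card.1 h2
  rw [hk]
  exact Nat.Coprime.pow_left k ((Nat.coprime_primes Nat.prime_two hp).2 (Ne.symm hp2))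

section Lift

variable {Y Y' : Type*} [Group Y] [Group Y'] [Finite Y] {f : Y →* Y'} {p : ℕ} [Fact p.Prime]

/-- A subgroup `⟨P, Q⟩ ≃ SL₂(F)` generated by two `p`-groups lifts isomorphically. -/
theorem inj_lift (hp2 : p ≠ 2) (hf : f.ker ≤ Subgroup.center Y) (h2 : IsPGroup 2 f.ker) {P Q : Subgroup Y'}
    (hP : IsPGroup p P) (hQ : IsPGroup p Q) {F : Type*} [Field F] (hF : (2 : F) ≠ 0)
    (e : SpecialLinearGroup (Fin 2) F ≃* ↥(P ⊔ Q)) {y : Y} (hy : y ∈ lft p f P ⊔ lft p f Q) (h1 : f y = 1) :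
    y = 1 := by
  have hpo : Odd p := (Fact.out : p.Prime).odd_of_ne_two hp2
  have hmap : ∀ y ∈ lft p f P ⊔ lft p f Q, f y ∈ P ⊔ Q := by
    intro y hy
    have h3 : (lft p f P ⊔ lft p f Q).map f ≤ P ⊔ Q := by
      rw [Subgroup.map_sup]
      exact sup_le_sup (map_lft_le p f P) (map_lft_le p f Q)
    exact h3 (Subgroup.mem_map_of_mem f hy)
  have hodd : ∀ {P : Subgroup Y'}, IsPGroup p P → ∀ y ∈ lft p f P, Odd (orderOf y) := by
    intro P hP y hy
    obtain ⟨-, k, hk⟩ := (mem_lft hf hP).1 hy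
    exact (hpo.pow (n := k)).of_dvd_nat (orderOf_dvd_of_pow_eq_one hk)
  refine GH.Cov.QuatLift.injOn (K := lft p f P ⊔ lft p f Q) (f := f) (t := (e (-1) : Y')) ?_ ?_ ?_ ?_ hy h1
  · refine sup_le ?_ ?_
    · intro y hy
      exact Subgroup.subset_closure ⟨Subgroup.mem_sup_left hy, hodd hP y hy⟩
    · intro y hy
      exact Subgroup.subset_closure ⟨Subgroup.mem_sup_right hy, hodd hQ y hy⟩
  · intro c _ hc y _
    exact (Subgroup.mem_center_iff.1 (hf hc) y).symm
  · intro c _ hc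
    obtain ⟨k, hk⟩ := h2 ⟨c, hc⟩
    exact ⟨k, congrArg Subtype.val hk⟩
  · intro y hy hyy
    have h3 := hmap y hy
    have h4 : e.symm ⟨f y, h3⟩ * e.symm ⟨f y, h3⟩ = 1 := by
      rw [← map_mul]
      have : (⟨f y, h3⟩ * ⟨f y, h3⟩ : ↥(P ⊔ Q)) = 1 := Subtype.ext hyy
      rw [this, map_one]
    rcases Lib.PSL2Inv.sq_eq_one hF h4 with h5 | h5
    · left
      have h6 : (⟨f y, h3⟩ : ↥(P ⊔ Q)) = 1 := by rw [← e.apply_symm_apply ⟨f y, h3⟩, h5, map_one]
      exact congrArg Subtype.val h6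
    · right
      have h6 : (⟨f y, h3⟩ : ↥(P ⊔ Q)) = e (-1) := by rw [← e.apply_symm_apply ⟨f y, h3⟩, h5]
      exact congrArg Subtype.val h6

end Lift

section Main

variable {I W L M N : Type*} [Fintype I] [DecidableEq I] [Group W] [Fintype W] [Group L] [Group M] [Finite M]
  [Group N] {Mx : CoxeterMatrix I}
  {cs : CoxeterSystem Mx W} {A : I → I → ℤ} {h : IsCartan Mx A} {p : ℕ} {T : Subgroup L} {n : I → L}
  {X : (I → ℤ) → Subgroup L} {R : Set (I → ℤ)} {Z : (I → ℤ) → Subgroup L} {z : (I → ℤ) → L}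

/-- the image of the group generated by the root groups -/
theorem G1_map {Y Y' : Type*} [Group Y] [Group Y'] (f : Y →* Y') (X : (I → ℤ) → Subgroup Y) :
    (G1 cs h X).map f = G1 cs h (fun x => (X x).map f) := by
  unfold G1 RGD.Sup
  rw [Subgroup.map_iSup]

variable (C : Cls cs h p T n X R Z z) (tr : ∀ r ∈ R, ∀ s ∈ R, ∃ w, s = rep cs h w r)
  (hp : p.Prime) (hp2 : p ≠ 2)
  {F : Type} [Field F] [Fintype F] (ho : Odd (Fintype.card F)) (hc : 3 < Fintype.card F)
  (sl : ∀ r ∈ R, Nonempty (SpecialLinearGroup (Fin 2) F ≃* ↥(Z r ⊔ Z (-r))))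
  {α : M →* L} (hα : Function.Surjective α) (hαc : α.ker ≤ Subgroup.center M) (hα2 : IsPGroup 2 α.ker)
  (hM : G1 cs h (fun x => lft p α (X x)) = ⊤)
  {φ : M →* N} (hφ : Function.Surjective φ) (hφc : φ.ker ≤ Subgroup.center M)

include C tr hp hp2 ho hc sl hα hαc hα2 hM hφ hφc

/-- **Frames in covers, first form.** There are lifts `z_M r` with `z_M r ∈ ⟨Z̃ r, Z̃ (-r)⟩` such that `N` has a frame for
every nontrivial `φ m`, `m ∈ ⟨z_M r : r ∈ R⟩`. -/
theorem frame_of_mem {nM : I → M} (hn : ∀ i, α (nM i) = n i) :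
    ∃ zM : (I → ℤ) → M, Cls cs h p (T.comap α) nM (fun x => lft p α (X x)) R (fun x => lft p α (Z x)) zM ∧
      (∀ r ∈ R, α (zM r) = z r) ∧
      ∀ m ∈ Subgroup.closure (zM '' R), φ m ≠ 1 → Nonempty (Frame N (φ m)) := by
  haveI : Fact p.Prime := ⟨hp⟩
  have hF : (2 : F) ≠ 0 := LongSL.two_ne_of_odd ho
  have hk := coprime_ker hα2 hp hp2
  have hinj : ∀ r ∈ R, ∀ y ∈ lft p α (Z r) ⊔ lft p α (Z (-r)), α y = 1 → y = 1 := by
    intro r hr y hy h1
    obtain ⟨e⟩ := sl r hr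
    exact inj_lift hp2 hαc hα2 (Nodes.ClsMap.isPGroup_Z C hr)
      (Nodes.ClsMap.isPGroup_Z C (Nodes.ClsMap.neg_mem C hr)) hF e hy h1
  obtain ⟨zM, CM, hzM⟩ := Nodes.ClsLift.cls_lift hαc hk hα C hn hinj
  refine ⟨zM, CM, hzM, ?_⟩
  intro m hm hm1
  -- the members of `M`
  have slM : ∀ r ∈ R, Nonempty (SpecialLinearGroup (Fin 2) F ≃* ↥(lft p α (Z r) ⊔ lft p α (Z (-r)))) := by
    intro r hr
    obtain ⟨e⟩ := sl r hr
    have hZr := Nodes.ClsMap.isPGroup_Z C hr
    have hZr' := Nodes.ClsMap.isPGroup_Z C (Nodes.ClsMap.neg_mem C hr)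
    have hmap : (lft p α (Z r) ⊔ lft p α (Z (-r))).map α = Z r ⊔ Z (-r) := by
      rw [Subgroup.map_sup, map_lft hαc hk hα hZr, map_lft hαc hk hα hZr']
    let g : ↥(lft p α (Z r) ⊔ lft p α (Z (-r))) →* L := α.comp (Subgroup.subtype _)
    have hg : Function.Injective g := by
      rw [injective_iff_map_eq_one]
      intro y hy
      exact Subtype.ext (hinj r hr y.1 y.2 hy)
    have hr' : g.range = Z r ⊔ Z (-r) := by
      rw [MonoidHom.range_comp, Subgroup.range_subtype, hmap]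
    exact ⟨(e.trans (MulEquiv.subgroupCongr hr'.symm)).trans (MonoidHom.ofInjective hg).symm⟩
  -- the image in `N`
  have CN := Nodes.ClsMap.cls_map_of_ker_le_center CM φ hφc
  have hGN : G1 cs h (fun x => (lft p α (X x)).map φ) = ⊤ := by
    rw [← G1_map, hM, Subgroup.map_top_of_surjective φ hφ]
  have hz0 : φ m ∈ Subgroup.closure ((fun x => φ (zM x)) '' R) := by
    have h1 := Subgroup.mem_map_of_mem φ hm
    rw [MonoidHom.map_closure, ← Set.image_comp] at h1
    exact h1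
  obtain ⟨r₀, hr₀, hz₀⟩ := ClsFrame.exists_z_ne hz0 hm1
  have hz1 : ∀ r ∈ R, φ (zM r) ≠ 1 := fun r hr => ClsFrame.z_ne CN tr hr₀ hz₀ hr
  refine ClsFrame.frame_of_cls CN tr hp hp2 hGN ho hc ?_ hz0 hm1
  intro r hr
  obtain ⟨e⟩ := slM r hr
  let g : SpecialLinearGroup (Fin 2) F →* N := (φ.comp (Subgroup.subtype _)).comp e.toMonoidHom
  have hg1 : ∀ s, g s = φ ((e s : ↥(lft p α (Z r) ⊔ lft p α (Z (-r)))) : M) := fun _ => rfl
  have hg : Function.Injective g := by
    rw [injective_iff_map_eq_one]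
    intro s hs
    -- `s` is central, hence `± 1`
    have h1 : ((e s : ↥(lft p α (Z r) ⊔ lft p α (Z (-r)))) : M) ∈ Subgroup.center M := hφc hs
    have h2 : s ∈ Subgroup.center (SpecialLinearGroup (Fin 2) F) := by
      rw [Subgroup.mem_center_iff]
      intro t
      apply e.injective
      apply Subtype.ext
      rw [map_mul, map_mul]
      exact Subgroup.mem_center_iff.1 h1 _
    have h3 : s = 1 ∨ s = -1 := CovTwo.mem_center_sl ho h2
    rcases h3 with h3 | h3
    · exact h3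
    · exfalso
      have h4 : (e s : ↥(lft p α (Z r) ⊔ lft p α (Z (-r)))) = ⟨zM r, CM.z_mem r hr⟩ := by
        have h5 : zM r ≠ 1 := fun h6 => hz1 r hr (by rw [h6, map_one])
        have h6 := Lib.PSL2Inv.sq_eq_one hF (x := e.symm ⟨zM r, CM.z_mem r hr⟩) (by
          rw [← map_mul]
          have : (⟨zM r, CM.z_mem r hr⟩ * ⟨zM r, CM.z_mem r hr⟩ : ↥(lft p α (Z r) ⊔ lft p α (Z (-r)))) = 1 :=
            Subtype.ext (CM.z_sq r hr)
          rw [this, map_one])
        rcases h6 with h6 | h6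
        · exfalso
          apply h5
          have h7 : (⟨zM r, CM.z_mem r hr⟩ : ↥(lft p α (Z r) ⊔ lft p α (Z (-r)))) = 1 := by
            rw [← e.apply_symm_apply ⟨zM r, CM.z_mem r hr⟩, h6, map_one]
          exact congrArg Subtype.val h7
        · rw [h3, ← h6, e.apply_symm_apply]
      apply hz1 r hr
      rw [hg1, h4] at hs
      exact hs
  have hr' : g.range = (lft p α (Z r)).map φ ⊔ (lft p α (Z (-r))).map φ := by
    rw [← Subgroup.map_sup, MonoidHom.range_comp, MonoidHom.range_eq_top.2 e.surjective]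
    rw [← MonoidHom.range_eq_map, MonoidHom.range_comp, Subgroup.range_subtype]
  exact ⟨(MonoidHom.ofInjective hg).trans (MulEquiv.subgroupCongr hr')⟩

/-- **Frames in covers, second form**: `z₀ = φ (Th t)`, `t ^ 2 = 1`, for a torus parametrisation
`Th : ∏ Fᵢ^× →* M` with `Th (mulSingle i (-1)) = s' i (-1)`, `s' i : SL(2, Fᵢ) →* M`. -/
theorem frame_of_cover {Fi : I → Type} [∀ i, Field (Fi i)] (s' : ∀ i, SpecialLinearGroup (Fin 2) (Fi i) →* M)
    (Th : (∀ i, (Fi i)ˣ) →* M) (hTh : ∀ i, Th (Pi.mulSingle i (-1)) = s' i (-1))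
    (hup : ∀ i, s' i (InvClosure.u1 (Fi i)) ∈ lft p α (X (sr i)))
    (hlo : ∀ i, s' i (InvClosure.l1 (Fi i)) ∈ lft p α (X (-sr i)))
    (hw : ∀ i, ∃ t ∈ T, α (s' i (InvClosure.w1 (Fi i))) = t * n i)
    (lnk : ∀ i, ∃ r ∈ R, r ≠ sr i ∧ r ≠ -sr i ∧ form cs h (sr i) r ≠ 0)
    {t : ∀ i, (Fi i)ˣ} (ht : t ^ 2 = 1) (h1 : φ (Th t) ≠ 1) : Nonempty (Frame N (φ (Th t))) := by
  have hn : ∃ nM : I → M, ∀ i, α (nM i) = n i := ⟨fun i => (hα (n i)).choose, fun i => (hα (n i)).choose_spec⟩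
  obtain ⟨nM, hn⟩ := hn
  obtain ⟨zM, CM, -, hfr⟩ := frame_of_mem C tr hp hp2 ho hc sl hα hαc hα2 hM hφ hφc hn
  refine hfr _ ?_ h1
  refine InvClosure.pm_mem Th (fun i => ?_) ht
  rw [hTh]
  refine InvClosure.neg_one_mem CM (s' i) (hup i) (hlo i) ?_ (lnk i)
  obtain ⟨t, ht, e⟩ := hw i
  refine ⟨s' i (InvClosure.w1 (Fi i)) * (nM i)⁻¹, ?_, by group⟩
  rw [Subgroup.mem_comap, map_mul, map_inv, e, hn, mul_inv_cancel_right]
  exact ht

end Main

end Cfsg.Agent.OddHalf.NI.CoverFrame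
end
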