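import Cfsg.Agent.SignalizersComponents.InvolutionComponent
import Cfsg.Agent.SignalizersComponents.EvenComponent
import Cfsg.Agent.SignalizersComponents.DistinctComponents
import Cfsg.Agent.S1304
import Cfsg.Agent.S0112
import Cfsg.Agent.S0113
import Cfsg.Agent.SmallSimple.EvenOrder
import Cfsg.Agent.SignalizersComponents.CompBasic
import Cfsg.Agent.SignalizersComponents.QsRankOne
import Cfsg.Agent.S1306
import Cfsg.Agent.S1307
import Cfsg.Agent.S1301
import Cfsg.Agent.ClassificationK.PCompTransport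
import Cfsg.Agent.FastGrp
import Cfsg.Agent.Prune
set_option linter.all false

section
prune_inst 0x7f00000000000000000000000000000000000000000000000000000000000000000000000000000000000000000000000000000000000000000000000000000000000000000000000000000000000000003fffffffffffffffffffffffffffbeffbdffffffff

-- part: OddHalf/D3/Basic
section
set_option linter.all false
open scoped Cfsg.Agent.FastGrp

/-!
# Components of centralizers of involutions: basic calculus

`cj g K` is the conjugate `g K g⁻¹`, `Comp t K` says that `K` is a component of `C_G(t)`.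
`Diag K D x`: `K = {d d^x : d ∈ D}` where `D` and `D^x` commute and `d ↦ d d^x` is injective.
-/

set_option autoImplicit false

namespace Cfsg.Agent.OddHalf.D3

open Subgroup Cfsg Cfsg.Agent.SignalizersComponents
open scoped commutatorElement

section Conj

variable {G : Type*} [Group G]

/-- The conjugate `g K g⁻¹`. -/
abbrev cj (g : G) (K : Subgroup G) : Subgroup G := K.map (MulAut.conj g).toMonoidHom

theorem mem_cj {g x : G} {K : Subgroup G} : x ∈ cj g K ↔ g⁻¹ * x * g ∈ K :=
  InvolutionComponent.mem_map_conj_iff g x K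

theorem conj_mem_cj {g x : G} {K : Subgroup G} (hx : x ∈ K) : g * x * g⁻¹ ∈ cj g K := by
  rw [mem_cj]
  have : g⁻¹ * (g * x * g⁻¹) * g = x := by group
  rwa [this]

theorem cj_cj (g h : G) (K : Subgroup G) : cj g (cj h K) = cj (g * h) K := by
  ext x
  rw [mem_cj, mem_cj, mem_cj]
  have : h⁻¹ * (g⁻¹ * x * g) * h = (g * h)⁻¹ * x * (g * h) := by group
  rw [this]

theorem cj_one (K : Subgroup G) : cj 1 K = K := by
  ext x
  rw [mem_cj]
  simp

theorem cj_inv_cj (g : G) (K : Subgroup G) : cj g⁻¹ (cj g K) = K := by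
  rw [cj_cj, inv_mul_cancel, cj_one]

theorem cj_cj_inv (g : G) (K : Subgroup G) : cj g (cj g⁻¹ K) = K := by
  rw [cj_cj, mul_inv_cancel, cj_one]

theorem cj_mono {g : G} {K L : Subgroup G} (h : K ≤ L) : cj g K ≤ cj g L := Subgroup.map_mono h

theorem cj_injective (g : G) : Function.Injective (cj g) := by
  intro K L h
  have := congrArg (cj g⁻¹) h
  rwa [cj_inv_cj, cj_inv_cj] at this

theorem card_cj (g : G) (K : Subgroup G) : Nat.card (cj g K) = Nat.card K :=
  (Nat.card_congr (K.equivMapOfInjective _ (MulAut.conj g).injective).toEquiv).symm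

theorem mem_normalizer_iff_cj {g : G} {K : Subgroup G} : g ∈ normalizer (K : Set G) ↔ cj g K = K :=
  Subgroup.mem_normalizer_iff_map_conj_eq

theorem cj_eq_of_mem {g : G} {K : Subgroup G} (hg : g ∈ K) : cj g K = K :=
  mem_normalizer_iff_cj.mp (le_normalizer hg)

theorem cj_eq_of_mem_centralizer {g : G} {K : Subgroup G} (hg : g ∈ centralizer (K : Set G)) :
    cj g K = K :=
  mem_normalizer_iff_cj.mp (centralizer_le_normalizer _ hg)

theorem cj_centralizer (g : G) (K : Subgroup G) :
    cj g (centralizer (K : Set G)) = centralizer ((cj g K : Subgroup G) : Set G) := by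
  ext x
  rw [mem_cj, mem_centralizer_iff, mem_centralizer_iff]
  constructor
  · intro h y hy
    have h1 := h (g⁻¹ * y * g) (mem_cj.mp hy)
    calc y * x = g * ((g⁻¹ * y * g) * (g⁻¹ * x * g)) * g⁻¹ := by group
      _ = x * y := by rw [h1]; group
  · intro h y hy
    have h1 := h (g * y * g⁻¹) (conj_mem_cj hy)
    calc y * (g⁻¹ * x * g) = g⁻¹ * ((g * y * g⁻¹) * x) * g := by group
      _ = g⁻¹ * x * g * y := by rw [h1]; group

theorem cj_centralizer_singleton (g t : G) :
    cj g (centralizer ({t} : Set G)) = centralizer ({g * t * g⁻¹} : Set G) :=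
  DistinctComponents.map_conj_centralizer_singleton g t

theorem mem_cs {x t : G} : x ∈ centralizer ({t} : Set G) ↔ x * t = t * x :=
  Subgroup.mem_centralizer_singleton_iff

theorem orderOf_conj (g t : G) : orderOf (g * t * g⁻¹) = orderOf t :=
  orderOf_injective (MulAut.conj g).toMonoidHom (MulAut.conj g).injective t

/-- Commuting subgroups, symmetric. -/
theorem comm_symm {K L : Subgroup G} (h : K ≤ centralizer (L : Set G)) : L ≤ centralizer (K : Set G) :=
  le_centralizer_iff.mp h

theorem comm_cj {K L : Subgroup G} {g : G} (h : K ≤ centralizer (L : Set G)) :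
    cj g K ≤ centralizer ((cj g L : Subgroup G) : Set G) := by
  rw [← cj_centralizer]
  exact cj_mono h

theorem comm_elt {K L : Subgroup G} (h : K ≤ centralizer (L : Set G)) {x y : G} (hx : x ∈ K)
    (hy : y ∈ L) : x * y = y * x :=
  (mem_centralizer_iff.mp (h hx) y hy).symm

end Conj

section Comps

variable {G : Type*} [Group G]

/-- `K` is a component of `C_G(t)`. -/
structure Comp (t : G) (K : Subgroup G) : Prop where
  le : K ≤ centralizer ({t} : Set G)
  comp : IsComponent (K.subgroupOf (centralizer ({t} : Set G)))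

theorem Comp.quasi {t : G} {K : Subgroup G} (h : Comp t K) : IsQuasisimple K :=
  (Components.isQuasisimple_congr (Subgroup.subgroupOfEquivOfLe h.le)).mp h.comp.2

theorem Comp.perfect {t : G} {K : Subgroup G} (h : Comp t K) : ⁅K, K⁆ = K :=
  Subgroup.isPerfect_iff.mp h.quasi.1

theorem not_comm_self {K : Subgroup G} (h : IsQuasisimple K) : ¬ K ≤ centralizer (K : Set G) := by
  intro h1
  apply Components.quasisimple_center_ne_top h
  rw [eq_top_iff]
  intro x _
  rw [mem_center_iff]
  intro g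
  exact Subtype.ext (comm_elt h1 g.2 x.2)

theorem Comp.mem {t : G} {K : Subgroup G} (h : Comp t K) : t ∈ centralizer (K : Set G) := by
  rw [mem_centralizer_iff]
  intro x hx
  exact mem_cs.mp (h.le hx)

theorem Comp.conj {t : G} {K : Subgroup G} (h : Comp t K) (g : G) : Comp (g * t * g⁻¹) (cj g K) := by
  have h1 := DistinctComponents.isComponent_subgroupOf_conj h.le h.comp g
  rw [DistinctComponents.map_conj_centralizer_singleton] at h1
  refine ⟨?_, h1⟩
  have h2 := cj_mono (g := g) h.le
  rwa [cj_centralizer_singleton] at h2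

theorem Comp.conj_of_comm {t : G} {K : Subgroup G} (h : Comp t K) {g : G} (hg : g * t = t * g) :
    Comp t (cj g K) := by
  have h1 := h.conj g
  have h2 : g * t * g⁻¹ = t := by rw [hg]; group
  rwa [h2] at h1

theorem Comp.comm {t : G} {K L : Subgroup G} (hK : Comp t K) (hL : Comp t L) (hne : K ≠ L) :
    K ≤ centralizer (L : Set G) := by
  have h1 : K.subgroupOf (centralizer ({t} : Set G)) ≠ L.subgroupOf (centralizer ({t} : Set G)) := by
    intro h
    apply hne
    have := congrArg (Subgroup.map (centralizer ({t} : Set G)).subtype) h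
    rwa [Subgroup.map_subgroupOf_eq_of_le hK.le, Subgroup.map_subgroupOf_eq_of_le hL.le] at this
  have h2 := Components.component_le_centralizer_of_ne hK.comp hL.comp h1
  intro x hx
  rw [mem_centralizer_iff]
  intro y hy
  have h3 := h2 (show (⟨x, hK.le hx⟩ : centralizer ({t} : Set G)) ∈ K.subgroupOf _ from hx)
  exact congrArg Subtype.val (mem_centralizer_iff.mp h3 ⟨y, hL.le hy⟩ hy)

/-- Transport of relative components to a subgroup. -/
theorem comp_subgroupOf {H K : Subgroup G} {x : G} (hxH : x ∈ H) (hKH : K ≤ H) (h : Comp x K) :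
    Comp (⟨x, hxH⟩ : H) (K.subgroupOf H) := by
  have hle : K.subgroupOf H ≤ centralizer ({(⟨x, hxH⟩ : H)} : Set H) := by
    intro k hk
    rw [mem_cs]
    exact Subtype.ext (mem_cs.mp (h.le hk))
  refine ⟨hle, ?_, ?_⟩
  · let ι : centralizer ({(⟨x, hxH⟩ : H)} : Set H) →* centralizer ({x} : Set G) :=
      (H.subtype.comp (centralizer ({(⟨x, hxH⟩ : H)} : Set H)).subtype).codRestrict _ (by
        rintro ⟨c, hc⟩
        rw [mem_cs]
        exact congrArg Subtype.val (mem_cs.mp hc))
    have h2 : (K.subgroupOf H).subgroupOf (centralizer ({(⟨x, hxH⟩ : H)} : Set H)) =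
        (K.subgroupOf (centralizer ({x} : Set G))).comap ι := rfl
    rw [h2]
    exact h.comp.1.comap ι
  · have e1 := Subgroup.subgroupOfEquivOfLe hle
    have e2 := Subgroup.subgroupOfEquivOfLe hKH
    exact Components.isQuasisimple_of_mulEquiv (e1.trans e2).symm h.quasi

/-- A component of `C_G(y)`, viewed in `G`. -/
theorem comp_map {y : G} {D : Subgroup (centralizer ({y} : Set G))} (h : IsComponent D) :
    Comp y (D.map (centralizer ({y} : Set G)).subtype) := by
  refine ⟨map_subtype_le D, ?_⟩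
  have h1 : (D.map (centralizer ({y} : Set G)).subtype).subgroupOf (centralizer ({y} : Set G)) = D :=
    Subgroup.comap_map_eq_self_of_injective (Subgroup.subtype_injective _) D
  rwa [h1]

theorem cj_map_subtype {H : Subgroup G} (D : Subgroup H) (x : H) :
    (cj x D).map H.subtype = cj (x : G) (D.map H.subtype) := by
  ext u
  simp only [Subgroup.mem_map]
  constructor
  · rintro ⟨v, ⟨w, hw, rfl⟩, rfl⟩
    exact ⟨w, ⟨w, hw, rfl⟩, rfl⟩
  · rintro ⟨v, ⟨w, hw, rfl⟩, rfl⟩
    exact ⟨x * w * x⁻¹, ⟨w, hw, rfl⟩, rfl⟩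

end Comps

section Trichotomy

variable {G : Type*} [Group G]

/-- The trichotomy for a component `L` of `C_G(t)` contained in the layer, with the diagonal case
explicit. -/
theorem trichotomy_of_le_layer (t : G) (ht : t * t = 1) (L : Subgroup G) (hL : Comp t L)
    (hLE : L ≤ layer G) :
    ∃ D : Subgroup G, IsComponent D ∧ (L = D ∨ L < D ∨
      (cj t D ≠ D ∧ (∀ d ∈ D, d * (t * d * t⁻¹) ∈ L) ∧ (∀ l ∈ L, ∃ d ∈ D, l = d * (t * d * t⁻¹)))) := by
  obtain ⟨D, hD, hLD⟩ :=
    InvolutionComponent.exists_component_le_sup t ht L hL.le hL.comp hLE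
  refine ⟨D, hD, ?_⟩
  by_cases hDt : cj t D = D
  · change L ≤ D ⊔ cj t D at hLD
    rw [hDt, sup_idem] at hLD
    rcases eq_or_lt_of_le hLD with h | h
    · exact Or.inl h
    · exact Or.inr (Or.inl h)
  · right; right
    refine ⟨hDt, ?_⟩
    have hcomp := Components.component_commutator_eq_bot_of_ne hD (Components.isComponent_conj t hD)
      (fun h => hDt h.symm)
    have hDD : ∀ x ∈ D, ∀ y ∈ D, x * (t * y * t⁻¹) = (t * y * t⁻¹) * x := by
      intro x hx y hy
      rw [commutator_eq_bot_iff_le_centralizer] at hcomp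
      exact (mem_centralizer_iff.mp (hcomp hx) (t * y * t⁻¹) (conj_mem_cj hy)).symm
    obtain ⟨δ, hδ⟩ := InvolutionComponent.exists_diag t D hDD
    have htt : ∀ x : G, t * (t * x * t⁻¹) * t⁻¹ = x := by
      intro x
      have : t * (t * x * t⁻¹) * t⁻¹ = (t * t) * x * (t * t)⁻¹ := by group
      rw [this, ht]; simp
    have hsup : ∀ n ∈ (D ⊔ D.map (MulAut.conj t).toMonoidHom) ⊓
        Subgroup.centralizer ({t} : Set G), ∃ x : D, ∃ z : G,
          z ∈ centralizer ((D ⊔ D.map (MulAut.conj t).toMonoidHom : Subgroup G) : Set G) ∧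
          δ x * z = n := by
      rintro n ⟨hn1, hn2⟩
      have hcen : D.map (MulAut.conj t).toMonoidHom ≤ centralizer (D : Set G) := by
        rw [← commutator_eq_bot_iff_le_centralizer, commutator_comm]; exact hcomp
      obtain ⟨x, hx, y', hy', rfl⟩ :=
        (CoprimeBasic.mem_sup_iff (hcen.trans (centralizer_le_normalizer _)) n).mp hn1
      obtain ⟨y, hy, rfl⟩ := hy'
      have hyy : (MulAut.conj t).toMonoidHom y = t * y * t⁻¹ := rfl
      rw [hyy] at hn2 ⊢
      have h1 : t * (x * (t * y * t⁻¹)) * t⁻¹ = x * (t * y * t⁻¹) := by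
        rw [mem_centralizer_iff.mp hn2 t rfl]; group
      have h2 : (t * x * t⁻¹) * y = x * (t * y * t⁻¹) := by
        rw [← h1]
        have : t * (x * (t * y * t⁻¹)) * t⁻¹ = (t * x * t⁻¹) * (t * (t * y * t⁻¹) * t⁻¹) := by group
        rw [this, htt]
      have h3 : y * (t * x * t⁻¹) = x * (t * y * t⁻¹) := by rw [hDD y hy x hx, h2]
      have hzD : x⁻¹ * y ∈ D := D.mul_mem (D.inv_mem hx) hy
      have hz : t * (x⁻¹ * y) * t⁻¹ = x⁻¹ * y := by
        have e1 : t * (x⁻¹ * y) * t⁻¹ = (t * x * t⁻¹)⁻¹ * (t * y * t⁻¹) := by group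
        have e2 : (t * y * t⁻¹) = x⁻¹ * (y * (t * x * t⁻¹)) := by rw [h3]; group
        have e3 : x⁻¹ * y * (t * x * t⁻¹) = (t * x * t⁻¹) * (x⁻¹ * y) := hDD _ hzD x hx
        rw [e1]
        rw [e2, ← mul_assoc x⁻¹ y, e3]
        group
      refine ⟨⟨x, hx⟩, x⁻¹ * y, ?_, ?_⟩
      · rw [← Subgroup.zpowers_le, le_centralizer_iff]
        refine sup_le ?_ ?_
        · rw [le_centralizer_iff, Subgroup.zpowers_le, mem_centralizer_iff]
          intro d hd
          have := hDD d hd _ hzD
          rwa [hz] at this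
        · rw [le_centralizer_iff, Subgroup.zpowers_le, mem_centralizer_iff]
          rintro d ⟨d, hd, rfl⟩
          exact (hDD _ hzD d hd).symm
      · rw [hδ]
        show x * (t * x * t⁻¹) * (x⁻¹ * y) = x * (t * y * t⁻¹)
        have e2 : (t * y * t⁻¹) = x⁻¹ * (y * (t * x * t⁻¹)) := by rw [h3]; group
        have e3 : x⁻¹ * y * (t * x * t⁻¹) = (t * x * t⁻¹) * (x⁻¹ * y) := hDD _ hzD x hx
        rw [e2, ← mul_assoc x⁻¹ y, e3]
        group
    set N := (D ⊔ D.map (MulAut.conj t).toMonoidHom) ⊓ Subgroup.centralizer ({t} : Set G) with hN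
    have hδN : ∀ x : D, δ x ∈ N := by
      rintro ⟨x, hx⟩
      rw [hδ, hN]
      refine mem_inf.mpr ⟨mul_mem (mem_sup_left hx) (mem_sup_right ?_), ?_⟩
      · exact ⟨x, hx, rfl⟩
      · rw [mem_centralizer_iff]
        rintro s rfl
        show s * (x * (s * x * s⁻¹)) = x * (s * x * s⁻¹) * s
        have e1 : s * (x * (s * x * s⁻¹)) = (s * x * s⁻¹) * (s * (s * x * s⁻¹) * s⁻¹) * s := by group
        rw [e1, htt, ← hDD x hx x hx]
    have hNN : ⁅N, N⁆ ≤ δ.range := by
      rw [commutator_le]
      intro a ha b hb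
      obtain ⟨x, z, hz, rfl⟩ := hsup a ha
      obtain ⟨y, w, hw, rfl⟩ := hsup b hb
      have hMx : ∀ x : D, δ x ∈ (D ⊔ D.map (MulAut.conj t).toMonoidHom) := fun x =>
        (mem_inf.mp (hδN x)).1
      have hwM : w ∈ (D ⊔ D.map (MulAut.conj t).toMonoidHom) := by
        have h1 := (mem_inf.mp hb).1
        have : w = (δ y)⁻¹ * (δ y * w) := by group
        rw [this]
        exact mul_mem (inv_mem (hMx y)) h1
      have c1 : Commute z (δ y * w) := by
        refine Commute.mul_right ?_ ?_
        · exact (mem_centralizer_iff.mp hz _ (hMx y)).symm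
        · exact (mem_centralizer_iff.mp hz _ hwM).symm
      have c2 : Commute w (δ x)⁻¹ := Commute.inv_right (mem_centralizer_iff.mp hw _ (hMx x)).symm
      have e : ⁅δ x * z, δ y * w⁆ = ⁅δ x, δ y⁆ := by
        calc ⁅δ x * z, δ y * w⁆ = δ x * (z * (δ y * w)) * z⁻¹ * (δ x)⁻¹ * (δ y * w)⁻¹ := by
              simp only [commutatorElement_def]; group
          _ = δ x * δ y * (w * (δ x)⁻¹) * w⁻¹ * (δ y)⁻¹ := by rw [c1.eq]; group
          _ = _ := by rw [c2.eq]; simp only [commutatorElement_def]; group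
      rw [e, ← map_commutatorElement]
      exact ⟨_, rfl⟩
    have hp : Group.IsPerfect L := hL.quasi.1
    have hLN : L ≤ N := le_inf hLD hL.le
    have hLδ : L ≤ δ.range := by
      rw [← Subgroup.isPerfect_iff.mp hp]
      exact (commutator_mono hLN hLN).trans hNN
    have hδL : δ.range ≤ L := by
      let δ' : D →* centralizer ({t} : Set G) := δ.codRestrict _ (fun x => (mem_inf.mp (hδN x)).2)
      have h1 : ((L.subgroupOf (centralizer ({t} : Set G))).comap δ').IsSubnormal := hL.comp.1.comap δ'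
      have h2 : (L.subgroupOf (centralizer ({t} : Set G))).comap δ' = L.comap δ := rfl
      rw [h2] at h1
      rcases Components.quasisimple_subnormal hD.2 h1 with h | h
      · rintro _ ⟨x, rfl⟩
        have : x ∈ L.comap δ := by rw [h]; trivial
        exact this
      · exfalso
        apply Components.quasisimple_center_ne_top hL.comp.2
        rw [eq_top_iff]
        intro x _
        rw [mem_center_iff]
        intro g
        apply Subtype.ext
        apply Subtype.ext
        obtain ⟨x', hx'⟩ := hLδ x.2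
        obtain ⟨g', hg'⟩ := hLδ g.2
        have h3 : x' ∈ center D := h (by rw [mem_comap, hx']; exact x.2)
        have h4 := mem_center_iff.mp h3 g'
        have h5 := congrArg δ h4
        rw [map_mul, map_mul, hx', hg'] at h5
        exact h5
    refine ⟨fun d hd => ?_, fun l hl => ?_⟩
    · have := hδL ⟨⟨d, hd⟩, rfl⟩
      rwa [hδ] at this
    · obtain ⟨d, hd⟩ := hLδ hl
      exact ⟨d, d.2, by rw [← hd, hδ]⟩

end Trichotomy

end Cfsg.Agent.OddHalf.D3
end

-- part: OddHalf/D3/Class
section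
set_option linter.all false
open scoped Cfsg.Agent.FastGrp

-- part: OddHalf/D3/Pump
section
/-!
# Pump-ups of components of maximal order

`Sys G` is a conjugation invariant family `F` of subgroups (components of involution centralizers of
certain types) of even order, closed under pump-ups.  `S.L K`: `K` is in `F` and is a component of the
centralizer of an involution; `S.M K`: moreover `|K|` is maximal among these.
-/

set_option autoImplicit false

namespace Cfsg.Agent.OddHalf.D3

open Subgroup Cfsg Cfsg.Agent.SignalizersComponents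
open scoped commutatorElement

variable {G : Type*} [Group G]

/-- A family of subgroups of `G`, closed under conjugation and under pump-ups. -/
structure Sys (G : Type*) [Group G] where
  F : Subgroup G → Prop
  conj : ∀ (g : G) (K : Subgroup G), F K → F (cj g K)
  even : ∀ K : Subgroup G, F K → 2 ∣ Nat.card K
  pump : ∀ (K : Subgroup G) (x y : G), F K → orderOf x = 2 → Comp x K → orderOf y = 2 →
    x * y = y * x → y ∈ centralizer (K : Set G) →
    ∃ D : Subgroup G, F D ∧ Comp y D ∧ (K = D ∨ K < D ∨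
      (cj x D ≠ D ∧ (∀ d ∈ D, d * (x * d * x⁻¹) ∈ K) ∧ ∀ k ∈ K, ∃ d ∈ D, k = d * (x * d * x⁻¹)))

/-- Members of the family which are components of involution centralizers. -/
def Sys.L (S : Sys G) (K : Subgroup G) : Prop := S.F K ∧ ∃ x : G, orderOf x = 2 ∧ Comp x K

/-- Members of `S.L` of maximal order. -/
def Sys.M (S : Sys G) (K : Subgroup G) : Prop :=
  S.L K ∧ ∀ K' : Subgroup G, S.L K' → Nat.card K' ≤ Nat.card K

/-- `K = {d d^x : d ∈ D}`, `D` commutes with `D^x ≠ D`, and `d ↦ d d^x` is injective. -/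
structure Diag (K D : Subgroup G) (x : G) : Prop where
  quasi : IsQuasisimple D
  xx : x * x = 1
  xK : x ∈ centralizer (K : Set G)
  ne : cj x D ≠ D
  comm : D ≤ centralizer ((cj x D : Subgroup G) : Set G)
  mem : ∀ d ∈ D, d * (x * d * x⁻¹) ∈ K
  ex : ∀ k ∈ K, ∃ d ∈ D, k = d * (x * d * x⁻¹)
  inj : ∀ d ∈ D, d * (x * d * x⁻¹) = 1 → d = 1

theorem Sys.L.conj {S : Sys G} {K : Subgroup G} (h : S.L K) (g : G) : S.L (cj g K) := by
  obtain ⟨hF, x, hx, hc⟩ := h
  exact ⟨S.conj g K hF, g * x * g⁻¹, by rw [orderOf_conj, hx], hc.conj g⟩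

theorem Sys.M.conj {S : Sys G} {K : Subgroup G} (h : S.M K) (g : G) : S.M (cj g K) := by
  refine ⟨h.1.conj g, fun K' hK' => ?_⟩
  rw [card_cj]
  exact h.2 K' hK'

theorem Sys.M.quasi {S : Sys G} {K : Subgroup G} (h : S.M K) : IsQuasisimple K := by
  obtain ⟨⟨-, x, -, hx⟩, -⟩ := h
  exact hx.quasi

theorem sq_of_order {x : G} (hx : orderOf x = 2) : x * x = 1 := by
  have := pow_orderOf_eq_one x
  rwa [hx, pow_two] at this

theorem order_of_sq {x : G} (hx : x * x = 1) (h1 : x ≠ 1) : orderOf x = 2 :=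
  orderOf_eq_prime (by rw [pow_two]; exact hx) h1

/-- (0): the pump-up alternative for members of maximal order. -/
theorem pump [Finite G] {S : Sys G} {K : Subgroup G} (hM : S.M K) {x y : G} (hx : orderOf x = 2)
    (hK : Comp x K) (hy : orderOf y = 2) (hxy : x * y = y * x) (hyK : y ∈ centralizer (K : Set G)) :
    Comp y K ∨ ∃ D : Subgroup G, S.M D ∧ Comp y D ∧ Diag K D x := by
  obtain ⟨D, hF, hD, h | h | ⟨h1, h2, h3⟩⟩ := S.pump K x y hM.1.1 hx hK hy hxy hyK
  · left
    rw [h]
    exact hD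
  · exfalso
    have h1 := hM.2 D ⟨hF, y, hy, hD⟩
    have h2 : Nat.card K < Nat.card D := Set.ncard_lt_ncard h (Set.toFinite _)
    omega
  · right
    have hL : S.L D := ⟨hF, y, hy, hD⟩
    have hle := hM.2 D hL
    -- the map
    let f : D → K := fun d => ⟨d * (x * d * x⁻¹), h2 d d.2⟩
    have hsurj : Function.Surjective f := by
      intro k
      obtain ⟨d, hd, hkd⟩ := h3 k k.2
      exact ⟨⟨d, hd⟩, Subtype.ext hkd.symm⟩
    have hge : Nat.card K ≤ Nat.card D := Nat.card_le_card_of_surjective f hsurj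
    have heq : Nat.card D = Nat.card K := le_antisymm hle hge
    have hbij : Function.Bijective f :=
      (Nat.bijective_iff_surjective_and_card f).mpr ⟨hsurj, heq⟩
    refine ⟨D, ⟨hL, fun K' hK' => ?_⟩, hD, ⟨hD.quasi, sq_of_order hx, hK.mem, h1, ?_, h2, h3, ?_⟩⟩
    · rw [heq]
      exact hM.2 K' hK'
    · exact hD.comm (hD.conj_of_comm hxy) h1.symm
    · intro d hd hd1
      have e1 : f ⟨d, hd⟩ = f 1 := by
        apply Subtype.ext
        change d * (x * d * x⁻¹) = ((1 : D) : G) * (x * ((1 : D) : G) * x⁻¹)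
        rw [hd1]
        simp
      have := hbij.1 e1
      exact congrArg Subtype.val this

theorem Diag.inv {K D : Subgroup G} {x : G} (h : Diag K D x) : x⁻¹ = x :=
  inv_eq_of_mul_eq_one_left h.xx

theorem Diag.cj_cj {K D : Subgroup G} {x : G} (h : Diag K D x) : cj x (cj x D) = D := by
  rw [D3.cj_cj, h.xx, cj_one]

/-- `D` does not commute with `K`. -/
theorem Diag.not_comm {K D : Subgroup G} {x : G} (h : Diag K D x) :
    ¬ D ≤ centralizer (K : Set G) := by
  intro h1
  apply not_comm_self h.quasi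
  intro d hd
  rw [mem_centralizer_iff]
  intro e he
  have h2 : d * (e * (x * e * x⁻¹)) = (e * (x * e * x⁻¹)) * d := comm_elt h1 hd (h.mem e he)
  have h3 : d * (x * e * x⁻¹) = (x * e * x⁻¹) * d := comm_elt h.comm hd (conj_mem_cj he)
  calc e * d = (e * (x * e * x⁻¹)) * ((x * e * x⁻¹)⁻¹ * d) := by group
    _ = (e * (x * e * x⁻¹)) * (d * (x * e * x⁻¹)⁻¹) := by
        congr 1
        rw [inv_mul_eq_iff_eq_mul, ← mul_assoc, eq_mul_inv_iff_mul_eq, h3]
    _ = ((e * (x * e * x⁻¹)) * d) * (x * e * x⁻¹)⁻¹ := by group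
    _ = (d * (e * (x * e * x⁻¹))) * (x * e * x⁻¹)⁻¹ := by rw [h2]
    _ = d * e := by group

/-- An element of `C(K)` conjugates non-commuting subgroups to non-commuting subgroups. -/
theorem not_comm_conj {K E : Subgroup G} {q : G} (hq : q ∈ centralizer (K : Set G)) :
    cj q E ≤ centralizer (K : Set G) ↔ E ≤ centralizer (K : Set G) := by
  have h1 : cj q K = K := cj_eq_of_mem_centralizer hq
  have h2 : cj q⁻¹ K = K := cj_eq_of_mem_centralizer (inv_mem hq)
  constructor
  · intro h
    have := comm_cj (g := q⁻¹) h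
    rwa [cj_inv_cj, h2] at this
  · intro h
    have := comm_cj (g := q) h
    rwa [h1] at this

theorem Diag.not_comm' {K D : Subgroup G} {x : G} (h : Diag K D x) :
    ¬ cj x D ≤ centralizer (K : Set G) := by
  rw [not_comm_conj h.xK]
  exact h.not_comm

/-- Components of `C(y)` other than `D`, `D^x` commute with `K`. -/
theorem Diag.comm_of_ne {K D E : Subgroup G} {x y : G} (h : Diag K D x) (hxy : x * y = y * x)
    (hD : Comp y D) (hE : Comp y E) (h1 : E ≠ D) (h2 : E ≠ cj x D) :
    E ≤ centralizer (K : Set G) := by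
  have c1 := hE.comm hD h1
  have c2 := hE.comm (hD.conj_of_comm hxy) h2
  intro e he
  rw [mem_centralizer_iff]
  intro k hk
  obtain ⟨d, hd, rfl⟩ := h.ex k hk
  have e1 : e * d = d * e := comm_elt c1 he hd
  have e2 : e * (x * d * x⁻¹) = (x * d * x⁻¹) * e := comm_elt c2 he (conj_mem_cj hd)
  calc d * (x * d * x⁻¹) * e = d * ((x * d * x⁻¹) * e) := by group
    _ = (d * e) * (x * d * x⁻¹) := by rw [← e2]; group
    _ = e * (d * (x * d * x⁻¹)) := by rw [← e1]; group

/-- The components of `C(y)` not commuting with `K` are `D` and `D^x`. -/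
theorem Diag.eq_or_eq {K D E : Subgroup G} {x y : G} (h : Diag K D x) (hxy : x * y = y * x)
    (hD : Comp y D) (hE : Comp y E) (hn : ¬ E ≤ centralizer (K : Set G)) : E = D ∨ E = cj x D := by
  by_contra hcon
  push Not at hcon
  exact hn (h.comm_of_ne hxy hD hE hcon.1 hcon.2)

/-- `C(y) ∩ C(K)` permutes `D` and `D^x`. -/
theorem Diag.perm {K D : Subgroup G} {x y q : G} (h : Diag K D x) (hxy : x * y = y * x)
    (hD : Comp y D) (hqy : q * y = y * q) (hq : q ∈ centralizer (K : Set G)) :
    cj q D = D ∨ cj q D = cj x D :=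
  h.eq_or_eq hxy hD (hD.conj_of_comm hqy) (by rw [not_comm_conj hq]; exact h.not_comm)

theorem Diag.fix' {K D : Subgroup G} {x y q : G} (h : Diag K D x) (hxy : x * y = y * x)
    (hD : Comp y D) (hqy : q * y = y * q) (hq : q ∈ centralizer (K : Set G)) (hqD : cj q D = D) :
    cj q (cj x D) = cj x D := by
  rcases h.eq_or_eq hxy hD ((hD.conj_of_comm hxy).conj_of_comm hqy)
    (by rw [not_comm_conj hq]; exact h.not_comm') with h1 | h1
  · exfalso
    apply h.ne
    apply cj_injective q
    rw [h1, hqD]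
  · exact h1

/-- An element of `C(y) ∩ C(K)` which normalizes `D` centralizes `D`. -/
theorem Diag.centralizes {K D : Subgroup G} {x y q : G} (h : Diag K D x) (hxy : x * y = y * x)
    (hD : Comp y D) (hqy : q * y = y * q) (hq : q ∈ centralizer (K : Set G)) (hqD : cj q D = D) :
    q ∈ centralizer (D : Set G) := by
  have hq2 := h.fix' hxy hD hqy hq hqD
  have hqn : q ∈ normalizer (D : Set G) := mem_normalizer_iff_cj.mpr hqD
  let α : D ≃* D := D.normalizerMonoidHom ⟨q, hqn⟩
  have hα : ∀ d : D, ((α d : D) : G) = q * d * q⁻¹ := fun d => rfl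
  have key : ∀ d : D, α d * d⁻¹ ∈ Subgroup.center D := by
    intro d
    have hd : (d : G) ∈ D := d.2
    set e : G := x * d * x⁻¹ with he
    have heD : e ∈ cj x D := conj_mem_cj hd
    have he' : q * e * q⁻¹ ∈ cj x D := by
      have := conj_mem_cj (g := q) heD
      rwa [hq2] at this
    have hk : ((d : G) * e) * q = q * ((d : G) * e) := mem_centralizer_iff.mp hq _ (h.mem d hd)
    -- q d q⁻¹ * q e q⁻¹ = d e
    have h1 : (q * d * q⁻¹) * (q * e * q⁻¹) = d * e := by
      calc (q * d * q⁻¹) * (q * e * q⁻¹) = q * (d * e) * q⁻¹ := by group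
        _ = d * e := by rw [← hk]; group
    have h2 : (α d : G) * (d : G)⁻¹ = (d : G) * (e * (q * e * q⁻¹)⁻¹) * (d : G)⁻¹ := by
      rw [hα]
      have : q * d * q⁻¹ = (d : G) * e * (q * e * q⁻¹)⁻¹ := by
        rw [← h1]; group
      rw [this]; group
    have hz : e * (q * e * q⁻¹)⁻¹ ∈ cj x D := mul_mem heD (inv_mem he')
    rw [mem_center_iff]
    intro g
    apply Subtype.ext
    change (g : G) * ((α d : G) * (d : G)⁻¹) = ((α d : G) * (d : G)⁻¹) * g
    rw [h2]
    have c1 := comm_elt h.comm hd hz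
    have c2 := comm_elt h.comm g.2 hz
    have e3 : (d : G) * (e * (q * e * q⁻¹)⁻¹) * (d : G)⁻¹ = e * (q * e * q⁻¹)⁻¹ := by
      rw [c1]; group
    rw [e3, c2]
  have hfix := Cfsg.Agent.S1304.result (hD.quasi.1.commutator_eq_top) α key
  rw [mem_centralizer_iff]
  intro d hd
  have h1 := congrArg Subtype.val (hfix ⟨d, hd⟩)
  change q * d * q⁻¹ = d at h1
  calc d * q = (q * d * q⁻¹) * q := by rw [h1]
    _ = q * d := by group

/-- Conversely, elements centralizing `D` and `D^x` centralize `K`. -/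
theorem Diag.centralizes' {K D : Subgroup G} {x y q : G} (h : Diag K D x) (hxy : x * y = y * x)
    (hD : Comp y D) (hqy : q * y = y * q) (hq : q ∈ centralizer (K : Set G)) (hqD : cj q D = D) :
    q ∈ centralizer ((cj x D : Subgroup G) : Set G) := by
  have h1 := h.centralizes hxy hD hqy hq hqD
  rw [mem_centralizer_iff]
  intro e he
  obtain ⟨d, hd, rfl⟩ := he
  change x * d * x⁻¹ * q = q * (x * d * x⁻¹)
  have h2 := mem_centralizer_iff.mp h1 d hd
  have h3 := mem_centralizer_iff.mp hq _ (h.mem d hd)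
  calc x * d * x⁻¹ * q = d⁻¹ * (d * (x * d * x⁻¹) * q) := by group
    _ = (d⁻¹ * q) * (d * (x * d * x⁻¹)) := by rw [h3]; group
    _ = q * d⁻¹ * (d * (x * d * x⁻¹)) := by
        congr 1
        rw [inv_mul_eq_iff_eq_mul, ← mul_assoc, eq_mul_inv_iff_mul_eq, h2]
    _ = q * (x * d * x⁻¹) := by group

end Cfsg.Agent.OddHalf.D3
end

-- part: OddHalf/D3/TwoGrp
section
/-!
# Facts on 2-groups and on Sylow 2-subgroups of quasisimple groups
-/

set_option autoImplicit false
set_option linter.style.haveILetI false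

namespace Cfsg.Agent.OddHalf.D3

open Subgroup Cfsg Cfsg.Agent.SignalizersComponents
open scoped commutatorElement

section TwoGroups

variable {G : Type*} [Group G] [Finite G]

/-- A 2-subgroup `T ≤ C` of maximal order contains a `C`-conjugate of every 2-subgroup of `C`. -/
theorem exists_conj_into {C T Q : Subgroup G} (hTC : T ≤ C) (hT : IsPGroup 2 T)
    (hmax : ∀ R : Subgroup G, R ≤ C → IsPGroup 2 R → Nat.card R ≤ Nat.card T) (hQC : Q ≤ C)
    (hQ : IsPGroup 2 Q) : ∃ c ∈ C, ∀ q ∈ Q, c * q * c⁻¹ ∈ T := by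
  haveI : Fact (Nat.Prime 2) := ⟨Nat.prime_two⟩
  have hT' : IsPGroup 2 (T.subgroupOf C) := hT.comap_subtype
  have hQ' : IsPGroup 2 (Q.subgroupOf C) := hQ.comap_subtype
  obtain ⟨P, hP⟩ := hT'.exists_le_sylow
  obtain ⟨R, hR⟩ := hQ'.exists_le_sylow
  have hPT : (P : Subgroup C) = T.subgroupOf C := by
    refine (SetLike.coe_injective (Set.eq_of_subset_of_ncard_le hP ?_ (Set.toFinite _))).symm
    have h1 : Nat.card ((P : Subgroup C).map C.subtype) ≤ Nat.card T :=
      hmax _ (map_subtype_le _) (P.isPGroup'.map _)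
    have h2 : Nat.card ((P : Subgroup C).map C.subtype) = Nat.card (P : Subgroup C) :=
      Nat.card_congr ((P : Subgroup C).equivMapOfInjective _ (Subgroup.subtype_injective C)).symm.toEquiv
    have h3 : Nat.card (T.subgroupOf C) = Nat.card T :=
      Nat.card_congr (Subgroup.subgroupOfEquivOfLe hTC).toEquiv
    rw [h2, ← h3] at h1
    exact h1
  obtain ⟨c, hc⟩ := MulAction.exists_smul_eq C R P
  refine ⟨c, c.2, fun q hq => ?_⟩
  have h1 : (⟨q, hQC hq⟩ : C) ∈ (R : Subgroup C) := hR (show q ∈ Q from hq)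
  have h2 : c * (⟨q, hQC hq⟩ : C) * c⁻¹ ∈ (P : Subgroup C) := by
    rw [← hc]
    have h3 := Subgroup.smul_mem_pointwise_smul _ (MulAut.conj c) _ h1
    exact h3
  rw [hPT] at h2
  exact h2

theorem card_le_two_mul {A T : Subgroup G} (x : G)
    (h : ∀ q ∈ T, q ∈ A ∨ x⁻¹ * q ∈ A) : Nat.card T ≤ 2 * Nat.card A := by
  have h1 : (T : Set G) ⊆ (A : Set G) ∪ (fun a => x * a) '' (A : Set G) := by
    intro q hq
    rcases h q hq with h1 | h1
    · exact Or.inl h1
    · exact Or.inr ⟨x⁻¹ * q, h1, by simp⟩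
  have h2 := Set.ncard_le_ncard h1 (Set.toFinite _)
  have h3 := Set.ncard_union_le (A : Set G) ((fun a => x * a) '' (A : Set G))
  have h4 : ((fun a => x * a) '' (A : Set G)).ncard ≤ (A : Set G).ncard :=
    Set.ncard_image_le (Set.toFinite _)
  have h5 : (T : Set G).ncard = Nat.card T := rfl
  have h6 : (A : Set G).ncard = Nat.card A := rfl
  omega

/-- Subgroups of `Q` meeting trivially. -/
theorem card_mul_le {A B Q : Subgroup G} (hA : A ≤ Q) (hB : B ≤ Q) (h : A ⊓ B = ⊥) :
    Nat.card A * Nat.card B ≤ Nat.card Q := by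
  rw [← Nat.card_prod]
  refine Nat.card_le_card_of_injective (fun p : A × B => (⟨p.1 * p.2, mul_mem (hA p.1.2) (hB p.2.2)⟩ : Q)) ?_
  rintro ⟨a, b⟩ ⟨a', b'⟩ hab
  have h1 : (a : G) * b = a' * b' := congrArg Subtype.val hab
  have h2 : (a' : G)⁻¹ * a = b' * (b : G)⁻¹ := by
    rw [inv_mul_eq_iff_eq_mul, ← mul_assoc, ← h1]; group
  have h3 : (a' : G)⁻¹ * a ∈ A ⊓ B := by
    refine mem_inf.mpr ⟨mul_mem (inv_mem a'.2) a.2, ?_⟩
    rw [h2]
    exact mul_mem b'.2 (inv_mem b.2)
  rw [h, mem_bot] at h3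
  have h4 : a = a' := Subtype.ext (inv_mul_eq_one.mp h3).symm
  rw [h3] at h2
  have h5 : b = b' := Subtype.ext (mul_inv_eq_one.mp h2.symm).symm
  rw [h4, h5]

/-- A 2-group `T` with an involution `b` such that `|C_T(b)| = 4` has 2-rank at most two. -/
theorem card_le_four_of_centralizer {T : Type*} [Group T] [Finite T] (hT : IsPGroup 2 T) {b : T}
    (hb : Nat.card (centralizer ({b} : Set T)) = 4) {E : Subgroup T} (hE : ∀ e ∈ E, e * e = 1) :
    Nat.card E ≤ 4 := by
  haveI : Fact (Nat.Prime 2) := ⟨Nat.prime_two⟩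
  obtain ⟨n, hn⟩ := hT.exists_card_eq
  by_cases hn3 : n < 3
  · have h1 : Nat.card E ≤ Nat.card T := Subgroup.card_le_card_group E
    have h2 : Nat.card T ≤ 4 := by
      rw [hn]
      calc 2 ^ n ≤ 2 ^ 2 := Nat.pow_le_pow_right (by norm_num) (by omega)
        _ = 4 := by norm_num
    omega
  push Not at hn3
  set A := centralizer ({b} : Set T) with hA
  have hcard : Nat.card A = 2 ^ 2 := by rw [hb]; norm_num
  have hcomm : IsMulCommutative A := IsPGroup.isMulCommutative_of_card_eq_prime_sq hcard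
  have hbA : b ∈ A := by rw [hA, mem_cs]
  have hCA : centralizer (A : Set T) = A := by
    apply le_antisymm
    · rw [hA]
      apply centralizer_le
      intro y hy
      rw [Set.mem_singleton_iff] at hy
      rw [hy]
      exact hbA
    · exact Subgroup.le_centralizer A
  have h1 := Cfsg.Agent.S0112.result n hn A hcard hCA
  obtain ⟨C, hC, hCi⟩ := Cfsg.Agent.S0113.result n hn3 hn h1
  -- `E ⊓ C` has order at most 2
  have h2 : Nat.card (E ⊓ C : Subgroup T) ≤ 2 := by
    haveI : IsCyclic (E ⊓ C : Subgroup T) := by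
      have := isCyclic_of_injective (Subgroup.inclusion (inf_le_right : E ⊓ C ≤ C))
        (Subgroup.inclusion_injective _)
      exact this
    obtain ⟨g, hg⟩ := IsCyclic.exists_generator (α := (E ⊓ C : Subgroup T))
    have h3 : orderOf g ≤ 2 := by
      apply orderOf_le_of_pow_eq_one (by norm_num)
      apply Subtype.ext
      rw [pow_two]
      exact hE g (mem_inf.mp g.2).1
    rw [← orderOf_eq_card_of_forall_mem_zpowers hg]
    exact h3
  have h3 : (E ⊓ C).relIndex E ≤ 2 := by
    rw [inf_comm, Subgroup.inf_relIndex_right]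
    have h5 : C.relIndex E ≤ C.index := by
      rw [← Subgroup.relIndex_top_right]
      exact Subgroup.relIndex_le_of_le_right le_top (by
        rw [Subgroup.relIndex_top_right, hCi]; norm_num)
    omega
  have h6 := Subgroup.card_mul_index ((E ⊓ C).subgroupOf E)
  have h7 : Nat.card ((E ⊓ C).subgroupOf E) = Nat.card (E ⊓ C : Subgroup T) :=
    Nat.card_congr (Subgroup.subgroupOfEquivOfLe inf_le_left).toEquiv
  have h8 : ((E ⊓ C).subgroupOf E).index = (E ⊓ C).relIndex E := rfl
  rw [h7, h8] at h6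
  rw [← h6]
  calc Nat.card (E ⊓ C : Subgroup T) * (E ⊓ C).relIndex E ≤ 2 * 2 := Nat.mul_le_mul h2 h3
    _ = 4 := by norm_num

end TwoGroups

section Quasisimple

/-- In a quasisimple group of even order a Sylow 2-subgroup is at least four times as large as its
intersection with the centre. -/
theorem four_mul_card_inf_center {D : Type*} [Group D] [Finite D] (hD : IsQuasisimple D)
    (h2 : 2 ∣ Nat.card D) (P : Sylow 2 D) :
    4 * Nat.card ((P : Subgroup D) ⊓ center D : Subgroup D) ≤ Nat.card (P : Subgroup D) := by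
  haveI : Fact (Nat.Prime 2) := ⟨Nat.prime_two⟩
  haveI := hD.2
  have hnc : ¬ IsMulCommutative (D ⧸ center D) := by
    intro hcon
    have hp : Group.IsPerfect (D ⧸ center D) :=
      haveI := hD.1
      Group.IsPerfect.ofSurjective (f := QuotientGroup.mk' (center D)) (QuotientGroup.mk'_surjective _)
    have h1 := hp.commutator_eq_top
    have h3 : commutator (D ⧸ center D) = ⊥ := by
      rw [_root_.commutator_def, Subgroup.commutator_eq_bot_iff_le_centralizer]
      intro x _
      rw [mem_centralizer_iff]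
      intro y _
      exact hcon.is_comm.comm y x
    rw [h3] at h1
    exact (bot_ne_top (α := Subgroup (D ⧸ center D))) h1
  have h2' : 2 ∣ Nat.card (D ⧸ center D) := by
    by_contra hcon
    apply CompBasic.sylow_not_le_center_of_perfect hD.1 2 h2 P
    have h1 : (P : Subgroup D).map (QuotientGroup.mk' (center D)) = ⊥ := by
      have h3 : IsPGroup 2 ((P : Subgroup D).map (QuotientGroup.mk' (center D))) := P.isPGroup'.map _
      obtain ⟨k, hk⟩ := h3.exists_card_eq
      have h4 : Nat.card ((P : Subgroup D).map (QuotientGroup.mk' (center D))) ∣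
          Nat.card (D ⧸ center D) := Subgroup.card_subgroup_dvd_card _
      rcases k with _ | k
      · rw [pow_zero] at hk
        exact Subgroup.card_eq_one.mp hk
      · exfalso
        apply hcon
        rw [hk] at h4
        exact (dvd_pow_self 2 (by omega)).trans h4
    rw [Subgroup.map_eq_bot_iff, QuotientGroup.ker_mk'] at h1
    exact h1
  have h4 := SmallSimple.EvenOrder.four_dvd_card hnc h2'
  -- count
  have hc : Nat.card D = Nat.card (D ⧸ center D) * Nat.card (center D) :=
    Subgroup.card_eq_card_quotient_mul_card_subgroup (center D)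
  have hP : Nat.card (P : Subgroup D) = 2 ^ (Nat.card D).factorization 2 := Sylow.card_eq_multiplicity P
  have hn1 : Nat.card (D ⧸ center D) ≠ 0 := Nat.card_pos.ne'
  have hn2 : Nat.card (center D) ≠ 0 := Nat.card_pos.ne'
  have hf : (Nat.card D).factorization 2 =
      (Nat.card (D ⧸ center D)).factorization 2 + (Nat.card (center D)).factorization 2 := by
    rw [hc, Nat.factorization_mul hn1 hn2]
    rfl
  have h5 : 2 ≤ (Nat.card (D ⧸ center D)).factorization 2 := by
    rw [← Nat.prime_two.pow_dvd_iff_le_factorization hn1]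
    exact h4
  obtain ⟨k, hk⟩ : ∃ k, Nat.card ((P : Subgroup D) ⊓ center D : Subgroup D) = 2 ^ k :=
    (P.isPGroup'.to_le inf_le_left).exists_card_eq
  have h6 : k ≤ (Nat.card (center D)).factorization 2 := by
    rw [← Nat.prime_two.pow_dvd_iff_le_factorization hn2, ← hk]
    exact Subgroup.card_dvd_of_le inf_le_right
  rw [hk, hP, hf]
  calc 4 * 2 ^ k = 2 ^ (2 + k) := by rw [pow_add]; norm_num
    _ ≤ _ := Nat.pow_le_pow_right (by norm_num) (by omega)

variable {G : Type*} [Group G] [Finite G]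

/-- A quasisimple subgroup `D` of even order contains a 2-subgroup `P` such that for every
2-subgroup `T` of `C(D)` the 2-group `T P` has order at least `4 |T|`. -/
theorem exists_two_subgroup {D : Subgroup G} (hD : IsQuasisimple D) (h2 : 2 ∣ Nat.card D) :
    ∃ P : Subgroup G, P ≤ D ∧ IsPGroup 2 P ∧ ∀ T : Subgroup G, T ≤ centralizer (D : Set G) →
      IsPGroup 2 T → IsPGroup 2 (T ⊔ P : Subgroup G) ∧ 4 * Nat.card T ≤ Nat.card (T ⊔ P : Subgroup G) := by
  haveI : Fact (Nat.Prime 2) := ⟨Nat.prime_two⟩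
  obtain ⟨P⟩ : Nonempty (Sylow 2 D) := inferInstance
  have h4 := four_mul_card_inf_center hD h2 P
  have hPG : IsPGroup 2 ((P : Subgroup D).map D.subtype) := P.isPGroup'.map _
  refine ⟨(P : Subgroup D).map D.subtype, map_subtype_le _, hPG, fun T hT hT2 => ?_⟩
  set P' := (P : Subgroup D).map D.subtype with hP'
  have hcomm : ∀ (t : T) (p : P'), Commute (T.subtype t) (P'.subtype p) := by
    intro t p
    exact comm_elt hT t.2 (map_subtype_le _ p.2)
  let φ : T × P' →* G := MonoidHom.noncommCoprod T.subtype P'.subtype hcomm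
  have hφ : φ.range = T ⊔ P' := by
    have := MonoidHom.noncommCoprod_range T.subtype P'.subtype hcomm
    rw [this, Subgroup.range_subtype, Subgroup.range_subtype]
  have hTP : IsPGroup 2 (T × P') := by
    rintro ⟨t, p⟩
    obtain ⟨k, hk⟩ := hT2 t
    obtain ⟨l, hl⟩ := hPG p
    refine ⟨k + l, ?_⟩
    rw [pow_add]
    apply Prod.ext
    · change t ^ (2 ^ k * 2 ^ l) = 1
      rw [pow_mul, hk, one_pow]
    · change p ^ (2 ^ k * 2 ^ l) = 1
      rw [mul_comm, pow_mul, hl, one_pow]
  constructor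
  · rw [← hφ]
    exact hTP.of_surjective φ.rangeRestrict φ.rangeRestrict_surjective
  · have h5 : Nat.card (T × P') = Nat.card φ.ker * Nat.card φ.range := by
      rw [← Subgroup.index_ker, Subgroup.card_mul_index]
    have h6 : Nat.card φ.ker ≤ Nat.card ((P : Subgroup D) ⊓ center D : Subgroup D) := by
      refine Nat.card_le_card_of_injective (fun u : φ.ker =>
        (⟨⟨(u : T × P').2, map_subtype_le _ (u : T × P').2.2⟩, ?_⟩ : ((P : Subgroup D) ⊓ center D : Subgroup D))) ?_
      · obtain ⟨⟨t, p⟩, hu⟩ := u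
        have h7 : (t : G) * (p : G) = 1 := hu
        refine mem_inf.mpr ⟨?_, ?_⟩
        · obtain ⟨q, hq, hqp⟩ := p.2
          have : q = ⟨(p : G), map_subtype_le _ p.2⟩ := Subtype.ext hqp
          rw [← this]
          exact hq
        · rw [mem_center_iff]
          intro g
          apply Subtype.ext
          change (g : G) * (p : G) = (p : G) * g
          have h8 : (p : G) = (t : G)⁻¹ := (inv_eq_of_mul_eq_one_right h7).symm
          rw [h8]
          exact (comm_elt hT (inv_mem t.2) g.2).symm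
      · rintro ⟨⟨t, p⟩, hu⟩ ⟨⟨t', p'⟩, hu'⟩ h
        have h7 : (t : G) * (p : G) = 1 := hu
        have h7' : (t' : G) * (p' : G) = 1 := hu'
        have h8 : (p : G) = p' := congrArg (fun v => ((v : ((P : Subgroup D) ⊓ center D : Subgroup D)) : G)) h
        have h9 : p = p' := Subtype.ext h8
        have h10 : t = t' := by
          apply Subtype.ext
          rw [eq_inv_of_mul_eq_one_left h7, eq_inv_of_mul_eq_one_left h7', h8]
        apply Subtype.ext
        exact Prod.ext h10 h9
    rw [Nat.card_prod, hφ] at h5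
    have h7 : Nat.card P' = Nat.card (P : Subgroup D) :=
      (Nat.card_congr ((P : Subgroup D).equivMapOfInjective _ (Subgroup.subtype_injective D)).toEquiv).symm
    rw [h7] at h5
    have hpos : 0 < Nat.card ((P : Subgroup D) ⊓ center D : Subgroup D) := Nat.card_pos
    refine Nat.le_of_mul_le_mul_right ?_ hpos
    calc 4 * Nat.card T * Nat.card ((P : Subgroup D) ⊓ center D : Subgroup D)
        = Nat.card T * (4 * Nat.card ((P : Subgroup D) ⊓ center D : Subgroup D)) := by ring
      _ ≤ Nat.card T * Nat.card (P : Subgroup D) := Nat.mul_le_mul_left _ h4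
      _ = Nat.card φ.ker * Nat.card (T ⊔ P' : Subgroup G) := h5
      _ ≤ Nat.card ((P : Subgroup D) ⊓ center D : Subgroup D) * Nat.card (T ⊔ P' : Subgroup G) :=
          Nat.mul_le_mul_right _ h6
      _ = Nat.card (T ⊔ P' : Subgroup G) * Nat.card ((P : Subgroup D) ⊓ center D : Subgroup D) := by ring

end Quasisimple

end Cfsg.Agent.OddHalf.D3
end

-- part: OddHalf/D3/Terminal
section
/-!
# Existence of a terminal component of maximal order

`exists_terminal`: if `S : Sys G` has a member which is a component of an involution centralizer, then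
some such `K` of maximal order is a component of `C(y)` for every involution `y ∈ C(K)`.
-/

set_option autoImplicit false
set_option linter.style.haveILetI false

namespace Cfsg.Agent.OddHalf.D3

open Subgroup Cfsg Cfsg.Agent.SignalizersComponents
open scoped commutatorElement

variable {G : Type*} [Group G] [Finite G]

/-- `K` is terminal: a component of `C(y)` for every involution `y ∈ C(K)`. -/
def Terminal (K : Subgroup G) : Prop :=
  ∀ y : G, orderOf y = 2 → y ∈ centralizer (K : Set G) → Comp y K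

/-- `K` is paired with a conjugate. -/
def Sys.Paired (S : Sys G) (K : Subgroup G) : Prop :=
  S.M K ∧ ∃ u g : G, orderOf u = 2 ∧ Comp u K ∧ Comp u (cj g K) ∧ cj g K ≠ K

omit [Finite G] in
theorem isPGroup_zpowers {x : G} (hx : orderOf x = 2) : IsPGroup 2 (zpowers x) := by
  apply IsPGroup.of_card (n := 1)
  rw [Nat.card_zpowers, hx, pow_one]

omit [Finite G] in
/-- If `Comp (c y c⁻¹) K` with `c ∈ C(K)` then `Comp y K`. -/
theorem comp_of_conj {K : Subgroup G} {c y : G} (hc : c ∈ centralizer (K : Set G))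
    (h : Comp (c * y * c⁻¹) K) : Comp y K := by
  have h1 := h.conj c⁻¹
  rw [cj_eq_of_mem_centralizer (inv_mem hc)] at h1
  have h2 : c⁻¹ * (c * y * c⁻¹) * c⁻¹⁻¹ = y := by group
  rwa [h2] at h1

omit [Finite G] in
theorem comp_conj_of {K : Subgroup G} {c y : G} (hc : c ∈ centralizer (K : Set G))
    (h : Comp y K) : Comp (c * y * c⁻¹) K := by
  have h1 := h.conj c
  rwa [cj_eq_of_mem_centralizer hc] at h1

/-- A nontrivial 2-group `T ≤ G` has an involution commuting with `T`. -/
theorem exists_central_involution {T : Subgroup G} (hT : IsPGroup 2 T) (h1 : T ≠ ⊥) :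
    ∃ z ∈ T, orderOf z = 2 ∧ ∀ t ∈ T, t * z = z * t := by
  haveI : Fact (Nat.Prime 2) := ⟨Nat.prime_two⟩
  haveI : Nontrivial T := (Subgroup.nontrivial_iff_ne_bot T).mpr h1
  haveI := hT.center_nontrivial
  obtain ⟨k, hk0, hk⟩ := (hT.to_subgroup (center T)).nontrivial_iff_card.mp inferInstance
  have h2 : 2 ∣ Nat.card (center T) := by
    rw [hk]
    exact dvd_pow_self 2 (by omega)
  obtain ⟨z, hz⟩ := exists_prime_orderOf_dvd_card' 2 h2
  refine ⟨((z : T) : G), (z : T).2, ?_, ?_⟩
  · rw [Subgroup.orderOf_coe, Subgroup.orderOf_coe]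
    exact hz
  · intro t ht
    have := Subgroup.mem_center_iff.mp z.2 ⟨t, ht⟩
    exact congrArg Subtype.val this

/-- (1): the central involutions of a large 2-group are good. -/
theorem central_good {S : Sys G} {K T : Subgroup G} (hM : S.M K) (hTK : T ≤ centralizer (K : Set G))
    (hT : IsPGroup 2 T)
    (hmax : ∀ K' T' : Subgroup G, S.Paired K' → T' ≤ centralizer (K' : Set G) → IsPGroup 2 T' →
      Nat.card T' ≤ Nat.card T)
    {x z : G} (hx : orderOf x = 2) (hxK : Comp x K) (hxT : x ∈ T) (hz : orderOf z = 2) (hzT : z ∈ T)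
    (hzc : ∀ t ∈ T, t * z = z * t) : Comp z K := by
  rcases pump hM hx hxK hz (hzc x hxT) (hTK hzT) with h | ⟨D, hDM, hD, hdiag⟩
  · exact h
  exfalso
  have hxz : x * z = z * x := hzc x hxT
  have hDx := hD.conj_of_comm hxz
  have hpair : S.Paired D := ⟨hDM, z, x, hz, hD, hDx, hdiag.ne⟩
  -- the subgroup `T₀`
  set T0 : Subgroup G := T ⊓ centralizer ((cj x D : Subgroup G) : Set G) ⊓ centralizer (D : Set G)
    with hT0
  have hcard : Nat.card T ≤ 2 * Nat.card T0 := by
    apply card_le_two_mul x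
    have hmem : ∀ q ∈ T, cj q D = D → q ∈ T0 := by
      intro q hq hqD
      have h1 := hdiag.centralizes hxz hD (hzc q hq) (hTK hq) hqD
      have h2 := hdiag.centralizes' hxz hD (hzc q hq) (hTK hq) hqD
      exact mem_inf.mpr ⟨mem_inf.mpr ⟨hq, h2⟩, h1⟩
    intro q hq
    rcases hdiag.perm hxz hD (hzc q hq) (hTK hq) with h1 | h1
    · exact Or.inl (hmem q hq h1)
    · right
      apply hmem _ (mul_mem (inv_mem hxT) hq)
      rw [← cj_cj, h1, cj_inv_cj]
  have h2D : 2 ∣ Nat.card (cj x D) := by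
    rw [card_cj]
    exact S.even D hDM.1.1
  obtain ⟨P, hPD, hP2, hP⟩ := exists_two_subgroup hDx.quasi h2D
  obtain ⟨h3, h4⟩ := hP T0 (inf_le_left.trans inf_le_right)
    (hT.to_le (inf_le_left.trans inf_le_left))
  have h5 := hmax D (T0 ⊔ P) hpair (sup_le inf_le_right (hPD.trans (comm_symm hdiag.comm))) h3
  have h6 : 0 < Nat.card T0 := Nat.card_pos
  omega

/-- No paired members: everything is terminal. -/
theorem terminal_of_not_paired {S : Sys G} {K : Subgroup G} (hM : S.M K)
    (h : ∀ K', ¬ S.Paired K') : Terminal K := by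
  haveI : Fact (Nat.Prime 2) := ⟨Nat.prime_two⟩
  have key : ∀ x y : G, orderOf x = 2 → Comp x K → orderOf y = 2 → x * y = y * x →
      y ∈ centralizer (K : Set G) → Comp y K := by
    intro x y hx hxK hy hxy hyK
    rcases pump hM hx hxK hy hxy hyK with h1 | ⟨D, hDM, hD, hdiag⟩
    · exact h1
    · exact absurd ⟨hDM, y, x, hy, hD, hD.conj_of_comm hxy, hdiag.ne⟩ (h D)
  intro y hy hyK
  obtain ⟨⟨-, x, hx, hxK⟩, -⟩ := id hM
  -- a 2-subgroup of `C(K)` of maximal order
  obtain ⟨T, ⟨hTK, hT⟩, hmax⟩ : ∃ T : Subgroup G, (T ≤ centralizer (K : Set G) ∧ IsPGroup 2 T) ∧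
      ∀ R : Subgroup G, (R ≤ centralizer (K : Set G) ∧ IsPGroup 2 R) → Nat.card R ≤ Nat.card T := by
    have hfin : Set.Finite {T : Subgroup G | T ≤ centralizer (K : Set G) ∧ IsPGroup 2 T} :=
      Set.toFinite _
    obtain ⟨T, hT, hT'⟩ := Set.exists_max_image _ (fun T : Subgroup G => Nat.card T) hfin
      ⟨⊥, bot_le, IsPGroup.of_bot⟩
    exact ⟨T, hT, fun R hR => hT' R hR⟩
  obtain ⟨c, hc, hcx⟩ := exists_conj_into hTK hT (fun R h1 h2 => hmax R ⟨h1, h2⟩)
    (zpowers_le.mpr hxK.mem) (isPGroup_zpowers hx)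
  obtain ⟨d, hd, hdy⟩ := exists_conj_into hTK hT (fun R h1 h2 => hmax R ⟨h1, h2⟩)
    (zpowers_le.mpr hyK) (isPGroup_zpowers hy)
  have hx1 := hcx x (mem_zpowers x)
  have hy1 := hdy y (mem_zpowers y)
  have hxK1 := comp_conj_of hc hxK
  have hox : orderOf (c * x * c⁻¹) = 2 := by rw [orderOf_conj, hx]
  have hoy : orderOf (d * y * d⁻¹) = 2 := by rw [orderOf_conj, hy]
  have hTne : T ≠ ⊥ := by
    intro hbot
    rw [hbot, mem_bot] at hx1
    rw [hx1, orderOf_one] at hox
    omega
  obtain ⟨z, hzT, hz, hzc⟩ := exists_central_involution hT hTne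
  have h1 := key _ z hox hxK1 hz (hzc _ hx1) (hTK hzT)
  have h2 := key z _ hz h1 hoy (hzc _ hy1).symm (hTK hy1)
  exact comp_of_conj hd h2

/-- (3b): the involutions of `C(y) ∩ C(K) ∩ C(D)` are bad. -/
theorem bad_of_mem {S : Sys G} {K D : Subgroup G} (hM : S.M K) (hDM : S.M D) {a b c : G}
    (ha : orderOf a = 2) (haK : Comp a K) (hb : orderOf b = 2) (hab : a * b = b * a)
    (hD : Comp b D) (hdiag : Diag K D a) (hc : orderOf c = 2) (hac : a * c = c * a)
    (hbc : b * c = c * b) (hcK : c ∈ centralizer (K : Set G)) (hcD : c ∈ centralizer (D : Set G))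
    (hbK : b ∈ centralizer (K : Set G)) :
    Comp c D ∧ ¬ Comp c K := by
  have hKa : cj a K = K := cj_eq_of_mem_centralizer haK.mem
  have hKb : cj b K = K := cj_eq_of_mem_centralizer hbK
  have hbaK : b ∈ centralizer (K : Set G) := hbK
  -- first part
  have h1 : Comp c D := by
    rcases pump hDM hb hD hc hbc hcD with h | ⟨F, hFM, hF, hFd⟩
    · exact h
    exfalso
    have hFa := hF.conj_of_comm hac
    have hFb := hF.conj_of_comm hbc
    have hFab := hFb.conj_of_comm hac
    -- `D^a ≤ D` is impossible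
    have hnle : ¬ cj a D ≤ D := by
      intro hle
      apply hdiag.ne
      apply Subgroup.eq_of_le_of_card_ge hle
      rw [card_cj]
    have ne1 : cj a F ≠ F := by
      intro hcon
      apply hnle
      rintro _ ⟨d, hd, rfl⟩
      obtain ⟨f, hf, rfl⟩ := hFd.ex d hd
      change a * (f * (b * f * b⁻¹)) * a⁻¹ ∈ D
      have hf' : a * f * a⁻¹ ∈ F := by
        have := conj_mem_cj (g := a) hf
        rwa [hcon] at this
      have := hFd.mem _ hf'
      have e : a * (f * (b * f * b⁻¹)) * a⁻¹ = (a * f * a⁻¹) * (b * (a * f * a⁻¹) * b⁻¹) := by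
        have h2 : b * a = a * b := hab.symm
        have h3 : a⁻¹ * b⁻¹ = b⁻¹ * a⁻¹ := by rw [← mul_inv_rev, ← mul_inv_rev, hab]
        calc a * (f * (b * f * b⁻¹)) * a⁻¹ = a * f * (b * f) * (b⁻¹ * a⁻¹) := by group
          _ = a * f * (b * f) * (a⁻¹ * b⁻¹) := by rw [h3]
          _ = (a * f * a⁻¹) * ((a * b) * f * a⁻¹ * b⁻¹) := by group
          _ = (a * f * a⁻¹) * ((b * a) * f * a⁻¹ * b⁻¹) := by rw [h2]
          _ = _ := by group
      rw [e]
      exact this
    have ne2 : cj a F ≠ cj b F := by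
      intro hcon
      apply hnle
      rintro _ ⟨d, hd, rfl⟩
      obtain ⟨f, hf, rfl⟩ := hFd.ex d hd
      change a * (f * (b * f * b⁻¹)) * a⁻¹ ∈ D
      -- `f^a = g^b` with `g ∈ F`
      have hfa : a * f * a⁻¹ ∈ cj b F := by
        have := conj_mem_cj (g := a) hf
        rwa [hcon] at this
      have hg : b⁻¹ * (a * f * a⁻¹) * b ∈ F := mem_cj.mp hfa
      set g := b⁻¹ * (a * f * a⁻¹) * b with hgdef
      have hga : a * f * a⁻¹ = b * g * b⁻¹ := by rw [hgdef]; group
      have h3 : a⁻¹ * b⁻¹ = b⁻¹ * a⁻¹ := by rw [← mul_inv_rev, ← mul_inv_rev, hab]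
      have e : a * (b * f * b⁻¹) * a⁻¹ = g := by
        calc a * (b * f * b⁻¹) * a⁻¹ = (a * b) * f * (b⁻¹ * a⁻¹) := by group
          _ = (b * a) * f * (a⁻¹ * b⁻¹) := by rw [hab, h3]
          _ = b * (a * f * a⁻¹) * b⁻¹ := by group
          _ = (b * b) * g * (b * b)⁻¹ := by rw [hga]; group
          _ = g := by rw [sq_of_order hb]; group
      have e2 : a * (f * (b * f * b⁻¹)) * a⁻¹ = (a * f * a⁻¹) * (a * (b * f * b⁻¹) * a⁻¹) := by group
      rw [e2, e, hga]
      have hcomm : g * (b * g * b⁻¹) = (b * g * b⁻¹) * g := comm_elt hFd.comm hg (conj_mem_cj hg)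
      rw [← hcomm]
      exact hFd.mem g hg
    have ne3 : cj b F ≠ F := hFd.ne
    have ne4 : cj a (cj b F) ≠ F := by
      intro hcon
      apply ne2
      have h2 := congrArg (cj a) hcon
      rw [cj_cj, cj_cj, sq_of_order ha, one_mul] at h2
      exact h2.symm
    -- `F` does not commute with `K`
    have hnF : ¬ F ≤ centralizer (K : Set G) := by
      intro hle
      apply not_comm_self hF.quasi
      intro f hf
      rw [mem_centralizer_iff]
      intro g hg
      -- the element of `K`
      have hdK : (g * (b * g * b⁻¹)) * (a * (g * (b * g * b⁻¹)) * a⁻¹) ∈ K :=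
        hdiag.mem _ (hFd.mem g hg)
      have c0 := comm_elt hle hf hdK
      have hgb : b * g * b⁻¹ ∈ cj b F := conj_mem_cj hg
      have hga : a * g * a⁻¹ ∈ cj a F := conj_mem_cj hg
      have hgab : a * (b * g * b⁻¹) * a⁻¹ ∈ cj a (cj b F) := conj_mem_cj hgb
      have c1 : f * (b * g * b⁻¹) = (b * g * b⁻¹) * f := comm_elt (hF.comm hFb ne3.symm) hf hgb
      have c2 : f * (a * g * a⁻¹) = (a * g * a⁻¹) * f := comm_elt (hF.comm hFa ne1.symm) hf hga
      have c3 : f * (a * (b * g * b⁻¹) * a⁻¹) = (a * (b * g * b⁻¹) * a⁻¹) * f :=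
        comm_elt (hF.comm hFab ne4.symm) hf hgab
      -- combine
      set u := (b * g * b⁻¹) * ((a * g * a⁻¹) * (a * (b * g * b⁻¹) * a⁻¹)) with hu
      have e : (g * (b * g * b⁻¹)) * (a * (g * (b * g * b⁻¹)) * a⁻¹) = g * u := by
        rw [hu]; group
      rw [e] at c0
      have cu : Commute f u := Commute.mul_right c1 (Commute.mul_right c2 c3)
      have h2 : f * g = g * f := by
        have h3 : f * g * u = g * f * u := by
          calc f * g * u = f * (g * u) := by group
            _ = g * (u * f) := by rw [c0]; group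
            _ = g * (f * u) := by rw [cu.eq]
            _ = g * f * u := by group
        exact mul_right_cancel h3
      exact h2.symm
    have hnFb : ¬ cj b F ≤ centralizer (K : Set G) := by rw [not_comm_conj hbK]; exact hnF
    have hnFa : ¬ cj a F ≤ centralizer (K : Set G) := by rw [not_comm_conj haK.mem]; exact hnF
    rcases pump hM ha haK hc hac hcK with h2 | ⟨E, hEM, hE, hEd⟩
    · have h3 : F = K := by
        by_contra hne
        exact hnF (hF.comm h2 hne)
      apply ne1
      rw [h3]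
      exact hKa
    · have k1 := hEd.eq_or_eq hac hE hF hnF
      have k2 := hEd.eq_or_eq hac hE hFb hnFb
      have k3 := hEd.eq_or_eq hac hE hFa hnFa
      rcases k1 with k1 | k1 <;> rcases k2 with k2 | k2 <;> rcases k3 with k3 | k3
      all_goals first
        | exact ne3 (k2.trans k1.symm)
        | exact ne1 (k3.trans k1.symm)
        | exact ne2 (k3.trans k2.symm)
  refine ⟨h1, fun hcK' => ?_⟩
  have hne : D ≠ K := by
    intro h
    apply hdiag.ne
    rw [h]
    exact hKa
  exact hdiag.not_comm (h1.comm hcK' hne)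

/-- The main step: a paired member with a large 2-group is terminal. -/
theorem terminal_of_paired {S : Sys G} {K T : Subgroup G} (hpair : S.Paired K)
    (hTK : T ≤ centralizer (K : Set G)) (hT : IsPGroup 2 T)
    (hmax : ∀ K' T' : Subgroup G, S.Paired K' → T' ≤ centralizer (K' : Set G) → IsPGroup 2 T' →
      Nat.card T' ≤ Nat.card T) : Terminal K := by
  haveI : Fact (Nat.Prime 2) := ⟨Nat.prime_two⟩
  have hM := hpair.1
  have hinto : ∀ Q : Subgroup G, Q ≤ centralizer (K : Set G) → IsPGroup 2 Q →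
      ∃ c ∈ centralizer (K : Set G), ∀ q ∈ Q, c * q * c⁻¹ ∈ T := fun Q h1 h2 =>
    exists_conj_into hTK hT (fun R h3 h4 => hmax K R hpair h3 h4) h1 h2
  by_contra hnt
  -- a good involution of `T`
  obtain ⟨x, hx, hxK, hxT⟩ : ∃ x : G, orderOf x = 2 ∧ Comp x K ∧ x ∈ T := by
    obtain ⟨⟨-, x, hx, hxK⟩, -⟩ := id hM
    obtain ⟨c, hc, hcx⟩ := hinto _ (zpowers_le.mpr hxK.mem) (isPGroup_zpowers hx)
    exact ⟨c * x * c⁻¹, by rw [orderOf_conj, hx], comp_conj_of hc hxK, hcx x (mem_zpowers x)⟩
  have hgood : ∀ z ∈ T, orderOf z = 2 → (∀ t ∈ T, t * z = z * t) → Comp z K :=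
    fun z hzT hz hzc => central_good hM hTK hT hmax hx hxK hxT hz hzT hzc
  -- a bad involution `b` of `T` with `|C_T(b)|` maximal
  obtain ⟨b, ⟨hbT, hb, hbK⟩, hbmax⟩ : ∃ b : G, (b ∈ T ∧ orderOf b = 2 ∧ ¬ Comp b K) ∧
      ∀ b' : G, b' ∈ T ∧ orderOf b' = 2 ∧ ¬ Comp b' K →
        Nat.card (T ⊓ centralizer ({b'} : Set G) : Subgroup G) ≤
          Nat.card (T ⊓ centralizer ({b} : Set G) : Subgroup G) := by
    have hfin : Set.Finite {b : G | b ∈ T ∧ orderOf b = 2 ∧ ¬ Comp b K} := Set.toFinite _
    have hne : Set.Nonempty {b : G | b ∈ T ∧ orderOf b = 2 ∧ ¬ Comp b K} := by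
      unfold Terminal at hnt
      push Not at hnt
      obtain ⟨y, hy, hyK, hny⟩ := hnt
      obtain ⟨c, hc, hcy⟩ := hinto _ (zpowers_le.mpr hyK) (isPGroup_zpowers hy)
      exact ⟨c * y * c⁻¹, hcy y (mem_zpowers y), by rw [orderOf_conj, hy],
        fun h => hny (comp_of_conj hc h)⟩
    obtain ⟨b, hb, hb'⟩ := Set.exists_max_image _
      (fun b : G => Nat.card (T ⊓ centralizer ({b} : Set G) : Subgroup G)) hfin hne
    exact ⟨b, hb, hb'⟩
  have hbb := sq_of_order hb
  have hbinv : b⁻¹ = b := inv_eq_of_mul_eq_one_left hbb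
  -- `Z(K)` has odd order
  have hZK : ∀ z ∈ K, orderOf z = 2 → ¬ z ∈ centralizer (K : Set G) := by
    intro z hzK hz hzc
    obtain ⟨c, hc, hcz⟩ := hinto _ (zpowers_le.mpr hzc) (isPGroup_zpowers hz)
    have h1 : c * z * c⁻¹ = z := by
      have := mem_centralizer_iff.mp hc z hzK
      rw [← this]; group
    have hzT : z ∈ T := by
      have := hcz z (mem_zpowers z)
      rwa [h1] at this
    have hzc' : ∀ t ∈ T, t * z = z * t := fun t ht => (mem_centralizer_iff.mp (hTK ht) z hzK).symm
    have hzgood := hgood z hzT hz hzc'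
    rcases pump hM hz hzgood hb (hzc' b hbT).symm (hTK hbT) with h2 | ⟨D, -, hD, hdiag⟩
    · exact hbK h2
    · obtain ⟨d, hd, hzd⟩ := hdiag.ex z hzK
      apply hdiag.ne
      rw [← mem_normalizer_iff_cj, hzd]
      exact mul_mem (le_normalizer hd)
        (centralizer_le_normalizer _ (comm_symm hdiag.comm (conj_mem_cj hd)))
  -- a central involution `a` of `T`
  have hTne : T ≠ ⊥ := by
    intro hbot
    rw [hbot, mem_bot] at hxT
    rw [hxT, orderOf_one] at hx
    omega
  obtain ⟨a, haT, ha, hac⟩ := exists_central_involution hT hTne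
  have haK := hgood a haT ha hac
  have hab : a * b = b * a := (hac b hbT).symm
  rcases pump hM ha haK hb hab (hTK hbT) with h2 | ⟨D, hDM, hD, hdiag⟩
  · exact hbK h2
  set Qb : Subgroup G := T ⊓ centralizer ({b} : Set G) with hQb
  set Q1 : Subgroup G := Qb ⊓ centralizer (D : Set G) with hQ1
  have haQ : a ∈ Qb := mem_inf.mpr ⟨haT, mem_cs.mpr hab⟩
  have hbQ : b ∈ Qb := mem_inf.mpr ⟨hbT, mem_cs.mpr rfl⟩
  have hbQ1 : b ∈ Q1 := mem_inf.mpr ⟨hbQ, hD.mem⟩
  have hQ1mem : ∀ q ∈ Qb, cj q D = D → q ∈ Q1 := fun q hq hqD =>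
    mem_inf.mpr ⟨hq, hdiag.centralizes hab hD (mem_cs.mp (mem_inf.mp hq).2)
      (hTK (mem_inf.mp hq).1) hqD⟩
  have hcard : Nat.card Qb ≤ 2 * Nat.card Q1 := by
    apply card_le_two_mul a
    intro q hq
    rcases hdiag.perm hab hD (mem_cs.mp (mem_inf.mp hq).2) (hTK (mem_inf.mp hq).1) with h1 | h1
    · exact Or.inl (hQ1mem q hq h1)
    · right
      apply hQ1mem _ (mul_mem (inv_mem haQ) hq)
      rw [← cj_cj, h1, cj_inv_cj]
  -- (1a)
  have h1a : ∀ c ∈ Q1, orderOf c = 2 → Comp c D ∧ ¬ Comp c K := by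
    intro c hc hc2
    obtain ⟨hcQ, hcD⟩ := mem_inf.mp hc
    obtain ⟨hcT, hcb⟩ := mem_inf.mp hcQ
    exact bad_of_mem hM hDM ha haK hb hab hD hdiag hc2 (hac c hcT).symm (mem_cs.mp hcb).symm
      (hTK hcT) hcD (hTK hbT)
  -- an element `g ∈ N_T(Qb) - Qb` with `g² ∈ Qb`
  have hQT : Qb ≤ T := inf_le_left
  have hQne : Qb ≠ T := by
    intro h
    apply hbK
    apply hgood b hbT hb
    intro t ht
    rw [← h] at ht
    exact mem_cs.mp (mem_inf.mp ht).2
  obtain ⟨g, hgT, hgQ, hgn, hg2⟩ : ∃ g ∈ T, g ∉ Qb ∧ cj g Qb = Qb ∧ g * g ∈ Qb := by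
    haveI : Group.IsNilpotent T := hT.isNilpotent
    have hlt : Qb.subgroupOf T < ⊤ := by
      rw [lt_top_iff_ne_top]
      intro h
      exact hQne (le_antisymm hQT (subgroupOf_eq_top.mp h))
    have h1 := Group.normalizerCondition_of_isNilpotent (G := T) _ hlt
    obtain ⟨u, hu1, hu2⟩ := SetLike.exists_of_lt h1
    -- the powers of `u`
    obtain ⟨k, hk⟩ := hT u
    have hex : ∃ k : ℕ, (u : T) ^ 2 ^ k ∈ Qb.subgroupOf T := ⟨k, by rw [hk]; exact one_mem _⟩
    classical
    let k0 := Nat.find hex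
    have hk0 : (u : T) ^ 2 ^ k0 ∈ Qb.subgroupOf T := Nat.find_spec hex
    have hk0pos : k0 ≠ 0 := by
      intro h0
      rw [h0, pow_zero, pow_one] at hk0
      exact hu2 hk0
    obtain ⟨k1, hk1⟩ := Nat.exists_eq_succ_of_ne_zero hk0pos
    have hk1' : (u : T) ^ 2 ^ k1 ∉ Qb.subgroupOf T := Nat.find_min hex (by
      change k1 < k0
      omega)
    refine ⟨((u ^ 2 ^ k1 : T) : G), (u ^ 2 ^ k1 : T).2, fun h => hk1' (mem_subgroupOf.mpr h), ?_, ?_⟩
    · have h2 : (u ^ 2 ^ k1 : T) ∈ normalizer ((Qb.subgroupOf T : Subgroup T) : Set T) :=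
        pow_mem hu1 _
      rw [← mem_normalizer_iff_cj]
      rw [mem_normalizer_iff] at h2 ⊢
      intro w
      constructor
      · intro hw
        exact (h2 ⟨w, hQT hw⟩).mp hw
      · intro hw
        have hwT : w ∈ T := by
          have h3 : (((u ^ 2 ^ k1 : T) : G))⁻¹ * (((u ^ 2 ^ k1 : T) : G) * w * (((u ^ 2 ^ k1 : T) : G))⁻¹) *
              ((u ^ 2 ^ k1 : T) : G) ∈ T :=
            mul_mem (mul_mem (inv_mem (u ^ 2 ^ k1 : T).2) (hQT hw)) (u ^ 2 ^ k1 : T).2
          have h4 : (((u ^ 2 ^ k1 : T) : G))⁻¹ * (((u ^ 2 ^ k1 : T) : G) * w * (((u ^ 2 ^ k1 : T) : G))⁻¹) *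
              ((u ^ 2 ^ k1 : T) : G) = w := by group
          rwa [h4] at h3
        exact (h2 ⟨w, hwT⟩).mpr hw
    · have h2 : ((u ^ 2 ^ k1 : T) : G) * ((u ^ 2 ^ k1 : T) : G) = ((u ^ 2 ^ k0 : T) : G) := by
        rw [hk1, pow_succ, pow_mul]
        push_cast
        rw [pow_two]
      rw [h2]
      exact hk0
  have hga : g * a * g⁻¹ = a := by
    rw [hac g hgT]; group
  -- `b^g`
  set b1 : G := g * b * g⁻¹ with hb1
  have hb1Q : b1 ∈ Qb := by
    rw [← hgn]
    exact conj_mem_cj hbQ
  have hb1T : b1 ∈ T := hQT hb1Q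
  have hb1ne : b1 ≠ b := by
    intro h
    apply hgQ
    refine mem_inf.mpr ⟨hgT, mem_cs.mpr ?_⟩
    calc g * b = (g * b * g⁻¹) * g := by group
      _ = b * g := by rw [← hb1, h]
  have hb1c : b1 * b = b * b1 := mem_cs.mp (mem_inf.mp hb1Q).2
  have hb1o : orderOf b1 = 2 := by rw [hb1, orderOf_conj, hb]
  have hb1b1 := sq_of_order hb1o
  have hgb1 : g * b1 * g⁻¹ = b := by
    have h1 : (g * g) * b = b * (g * g) := mem_cs.mp (mem_inf.mp hg2).2
    calc g * b1 * g⁻¹ = (g * g) * b * (g * g)⁻¹ := by rw [hb1]; group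
      _ = b := by rw [h1]; group
  -- `b' = b b^g` is good
  have hb1notin : b1 ∉ Q1 := by
    intro hb1Q1
    have hb'o : orderOf (b * b1) = 2 := by
      apply order_of_sq
      · calc b * b1 * (b * b1) = b * (b1 * b) * b1 := by group
          _ = (b * b) * (b1 * b1) := by rw [hb1c]; group
          _ = 1 := by rw [hbb, hb1b1, one_mul]
      · intro h
        apply hb1ne
        calc b1 = b⁻¹ := (inv_eq_of_mul_eq_one_right h).symm
          _ = b := hbinv
    have hb'Q1 : b * b1 ∈ Q1 := mul_mem hbQ1 hb1Q1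
    have hbad := (h1a _ hb'Q1 hb'o).2
    have hle := hbmax (b * b1) ⟨mul_mem hbT hb1T, hb'o, hbad⟩
    have hlt : Qb < T ⊓ centralizer ({b * b1} : Set G) := by
      refine lt_of_le_of_ne ?_ ?_
      · intro q hq
        refine mem_inf.mpr ⟨hQT hq, mem_cs.mpr ?_⟩
        have c1 : q * b = b * q := mem_cs.mp (mem_inf.mp hq).2
        have c2 : q * b1 = b1 * q := by
          -- `q^(g⁻¹)` commutes with `b`
          have hq' : g⁻¹ * q * g ∈ Qb := by
            rw [← mem_cj, hgn]
            exact hq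
          have c3 : (g⁻¹ * q * g) * b = b * (g⁻¹ * q * g) := mem_cs.mp (mem_inf.mp hq').2
          calc q * b1 = g * ((g⁻¹ * q * g) * b) * g⁻¹ := by rw [hb1]; group
            _ = g * (b * (g⁻¹ * q * g)) * g⁻¹ := by rw [c3]
            _ = b1 * q := by rw [hb1]; group
        calc q * (b * b1) = (q * b) * b1 := by group
          _ = b * (q * b1) := by rw [c1]; group
          _ = b * b1 * q := by rw [c2]; group
      · intro h
        apply hgQ
        rw [h]
        refine mem_inf.mpr ⟨hgT, mem_cs.mpr ?_⟩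
        calc g * (b * b1) = (g * b * g⁻¹) * (g * b1 * g⁻¹) * g := by group
          _ = b1 * b * g := by rw [hgb1]
          _ = b * b1 * g := by rw [hb1c]
    have := Set.ncard_lt_ncard (show ((Qb : Subgroup G) : Set G) ⊂
      ((T ⊓ centralizer ({b * b1} : Set G) : Subgroup G) : Set G) from hlt) (Set.toFinite _)
    exact absurd hle (not_le.mpr this)
  -- `Q1 ⊓ Q1^g = 1`
  have hdisj : Q1 ⊓ cj g Q1 = ⊥ := by
    by_contra hne
    have hP : IsPGroup 2 (Q1 ⊓ cj g Q1 : Subgroup G) :=
      hT.to_le (inf_le_left.trans (inf_le_left.trans hQT))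
    obtain ⟨c, hcm, hc2, -⟩ := exists_central_involution hP hne
    obtain ⟨hc1, hc3⟩ := mem_inf.mp hcm
    have hcT : c ∈ T := hQT (mem_inf.mp hc1).1
    obtain ⟨hcD, hcK⟩ := h1a c hc1 hc2
    -- the conjugate statement
    have hc' : g⁻¹ * c * g ∈ Q1 := mem_cj.mp hc3
    have hc'2 : orderOf (g⁻¹ * c * g) = 2 := by
      have := orderOf_conj g⁻¹ c
      rw [inv_inv] at this
      rw [this, hc2]
    have hcDg : Comp c (cj g D) := by
      have h1 := (h1a _ hc' hc'2).1.conj g
      have h2 : g * (g⁻¹ * c * g) * g⁻¹ = c := by group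
      rwa [h2] at h1
    have hgK : g ∈ centralizer (K : Set G) := hTK hgT
    have hnDg : ¬ cj g D ≤ centralizer (K : Set G) := by
      rw [not_comm_conj hgK]; exact hdiag.not_comm
    have hacc : a * c = c * a := (hac c hcT).symm
    -- `D^g ∈ {D, D^a}`
    have hDg := hdiag.eq_or_eq hacc hcD hcDg hnDg
    have hb1D : b1 ∈ centralizer ((cj g D : Subgroup G) : Set G) := by
      have := hD.mem
      rw [← cj_centralizer]
      exact conj_mem_cj this
    apply hb1notin
    rcases hDg with h | h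
    · rw [h] at hb1D
      exact mem_inf.mpr ⟨hb1Q, hb1D⟩
    · rw [h, ← cj_centralizer, mem_cj] at hb1D
      have h5 : a⁻¹ * b1 * a = b1 := by
        have := hac b1 hb1T
        rw [mul_assoc, this]; group
      rw [h5] at hb1D
      exact mem_inf.mpr ⟨hb1Q, hb1D⟩
  -- orders
  have hcardQ : Nat.card Q1 * Nat.card (cj g Q1) ≤ Nat.card Qb := by
    apply card_mul_le inf_le_left _ hdisj
    have h1 : cj g Q1 ≤ cj g Qb := cj_mono inf_le_left
    rwa [hgn] at h1
  rw [card_cj] at hcardQ
  have hQ1le : Nat.card Q1 ≤ 2 := by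
    have hpos : 0 < Nat.card Q1 := Nat.card_pos
    by_contra hcon
    push Not at hcon
    have : 3 * Nat.card Q1 ≤ Nat.card Q1 * Nat.card Q1 := Nat.mul_le_mul_right _ hcon
    omega
  have hQb4 : Nat.card Qb = 4 := by
    have hle : Nat.card Qb ≤ 4 := by omega
    have hQ2 : IsPGroup 2 Qb := hT.to_le hQT
    obtain ⟨k, hk⟩ := hQ2.exists_card_eq
    -- at least three elements
    have h3 : 3 ≤ Nat.card Qb := by
      have hne : a ≠ b := fun h => hbK (h ▸ haK)
      have hsub : ({1, a, b} : Set G) ⊆ (Qb : Set G) := by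
        rintro w (rfl | rfl | rfl)
        · exact one_mem _
        · exact haQ
        · exact hbQ
      have h4 := Set.ncard_le_ncard hsub (Set.toFinite _)
      have h5 : ({1, a, b} : Set G).ncard = 3 := by
        have ha1 : (1 : G) ≠ a := by
          rintro rfl
          rw [orderOf_one] at ha
          omega
        have hb1' : (1 : G) ≠ b := by
          rintro rfl
          rw [orderOf_one] at hb
          omega
        rw [Set.ncard_insert_of_notMem (by simp [ha1, hb1']) (Set.toFinite _),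
          Set.ncard_pair hne]
      rw [h5] at h4
      exact h4
    have hk' : k = 2 := by
      have h1 : k < 3 := by
        by_contra hcon
        push Not at hcon
        have := Nat.pow_le_pow_right (n := 2) (by norm_num) hcon
        omega
      interval_cases k <;> omega
    rw [hk, hk']
    norm_num
  -- the group `⟨u⟩ × E` in `C(K)`
  obtain ⟨-, u, h, hu, huK, huK', hKne⟩ := hpair
  have hK'C : cj h K ≤ centralizer (K : Set G) := huK'.comm huK hKne
  obtain ⟨E, hEK', hE, hE4⟩ : ∃ E : Subgroup G, E ≤ cj h K ∧ ((∀ e ∈ E, e * e = 1) ∧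
      (∀ e ∈ E, ∀ f ∈ E, e * f = f * e)) ∧ 2 < Nat.card E := by
    have hnrk : ¬ PRankLE 2 1 (cj h K) := by
      intro hrk
      obtain ⟨⟨t, htc, hto⟩, -⟩ := QsRankOne.exists_central_involution huK'.quasi
        (even_iff_two_dvd.mpr (by rw [card_cj]; exact S.even K hM.1.1)) hrk
      have ht1 : (t : G) ∈ cj h K := t.2
      have ht2 : (t : G) ∈ centralizer ((cj h K : Subgroup G) : Set G) := by
        rw [mem_centralizer_iff]
        intro w hw
        exact congrArg Subtype.val (mem_center_iff.mp htc ⟨w, hw⟩)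
      apply hZK (h⁻¹ * t * h) (mem_cj.mp ht1)
      · have := orderOf_conj h⁻¹ (t : G)
        rw [inv_inv] at this
        rw [this, Subgroup.orderOf_coe, hto]
      · rw [← mem_cj, cj_centralizer]
        exact ht2
    unfold PRankLE at hnrk
    push Not at hnrk
    obtain ⟨E, hE1, hE2, hE3⟩ := hnrk
    refine ⟨E.map (cj h K).subtype, map_subtype_le _, ⟨?_, ?_⟩, ?_⟩
    · rintro _ ⟨e, he, rfl⟩
      have := hE2 e he
      rw [pow_two] at this
      exact congrArg Subtype.val this
    · rintro _ ⟨e, he, rfl⟩ _ ⟨f, hf, rfl⟩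
      have := hE1.is_comm.comm ⟨e, he⟩ ⟨f, hf⟩
      exact congrArg (fun w : E => ((w : cj h K) : G)) this
    · have : Nat.card (E.map (cj h K).subtype) = Nat.card E :=
        (Nat.card_congr (E.equivMapOfInjective _ (Subgroup.subtype_injective _)).toEquiv).symm
      rw [this]
      omega
  -- `E ⟨u⟩`
  have huE : u ∉ E := by
    intro h1
    have h2 : u ∈ cj h K := hEK' h1
    have h3 : u ∈ centralizer ((cj h K : Subgroup G) : Set G) := huK'.mem
    apply hZK (h⁻¹ * u * h) (mem_cj.mp h2)
    · have := orderOf_conj h⁻¹ u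
      rw [inv_inv] at this
      rw [this, hu]
    · rw [← mem_cj, cj_centralizer]
      exact h3
  have huu := sq_of_order hu
  have hcu : ∀ e ∈ E, e * u = u * e := fun e he => mem_centralizer_iff.mp huK'.mem e (hEK' he)
  let W : Subgroup G :=
    { carrier := {w | w ∈ E ∨ w * u ∈ E}
      one_mem' := Or.inl (one_mem _)
      mul_mem' := by
        rintro w w' (h1 | h1) (h2 | h2)
        · exact Or.inl (mul_mem h1 h2)
        · right
          rw [mul_assoc]
          exact mul_mem h1 h2
        · right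
          have : w * w' * u = (w * u) * w' := by
            rw [mul_assoc, hcu w' h2, mul_assoc]
          rw [this]
          exact mul_mem h1 h2
        · left
          have : w * w' = (w * u) * (w' * u) := by
            have h3 := hcu _ h2
            calc w * w' = w * ((w' * u) * u) := by rw [mul_assoc, huu, mul_one]
              _ = w * (u * (w' * u)) := by rw [h3]
              _ = (w * u) * (w' * u) := by group
          rw [this]
          exact mul_mem h1 h2
      inv_mem' := by
        rintro w (h1 | h1)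
        · exact Or.inl (inv_mem h1)
        · right
          have h3 := hcu _ (inv_mem h1)
          have huinv : u⁻¹ = u := inv_eq_of_mul_eq_one_left huu
          have : w⁻¹ * u = (w * u)⁻¹ := by
            have h4 : w⁻¹ = u * (w * u)⁻¹ := by group
            rw [h4, ← h3, mul_assoc, huu, mul_one]
          rw [this]
          exact inv_mem h1 }
  have hWmem : ∀ w, w ∈ W ↔ w ∈ E ∨ w * u ∈ E := fun w => Iff.rfl
  have hWsq : ∀ w ∈ W, w * w = 1 := by
    intro w hw
    rcases hw with h1 | h1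
    · exact hE.1 w h1
    · have h3 := hcu _ h1
      have h4 := hE.1 _ h1
      calc w * w = (w * u) * (u * w * u) * u := by
            have : (w * u) * (u * w * u) * u = w * (u * u) * w * (u * u) := by group
            rw [this, huu, mul_one, mul_one]
        _ = (w * u) * ((w * u) * u) * u := by rw [mul_assoc u w u, ← h3]
        _ = ((w * u) * (w * u)) * (u * u) := by group
        _ = 1 := by rw [h4, huu, one_mul]
  have hWC : W ≤ centralizer (K : Set G) := by
    intro w hw
    rcases hw with h1 | h1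
    · exact hK'C (hEK' h1)
    · have h2 := hK'C (hEK' h1)
      have h3 : w = (w * u) * u⁻¹ := by group
      rw [h3]
      exact mul_mem h2 (inv_mem huK.mem)
  have hW2 : IsPGroup 2 W := by
    intro w
    refine ⟨1, ?_⟩
    rw [pow_one, pow_two]
    exact Subtype.ext (hWsq w w.2)
  have hWcard : 4 < Nat.card W := by
    have h1 : E ≤ W := fun e he => Or.inl he
    have h2 : u ∈ W := Or.inr (by rw [huu]; exact one_mem _)
    have h3 : E.relIndex W ≠ 1 := by
      intro h
      rw [Subgroup.relIndex_eq_one] at h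
      exact huE (h h2)
    have h4 : E.relIndex W ≠ 0 := Subgroup.index_ne_zero_of_finite (H := E.subgroupOf W)
    have h5 := Subgroup.card_mul_index (E.subgroupOf W)
    have h6 : Nat.card (E.subgroupOf W) = Nat.card E :=
      Nat.card_congr (Subgroup.subgroupOfEquivOfLe h1).toEquiv
    have h7 : (E.subgroupOf W).index = E.relIndex W := rfl
    rw [h6, h7] at h5
    rw [← h5]
    have h8 : 2 ≤ E.relIndex W := by omega
    calc 4 < 3 * 2 := by norm_num
      _ ≤ Nat.card E * E.relIndex W := Nat.mul_le_mul hE4 h8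
  -- move into `T`
  obtain ⟨c, hc, hcW⟩ := hinto W hWC hW2
  have hle : cj c W ≤ T := by
    rintro _ ⟨w, hw, rfl⟩
    exact hcW w hw
  have h4 := card_le_four_of_centralizer (T := T) hT (b := ⟨b, hbT⟩) (E := (cj c W).subgroupOf T) (by
    have e : (centralizer ({(⟨b, hbT⟩ : T)} : Set T)).map T.subtype = Qb := by
      ext w
      constructor
      · rintro ⟨v, hv, rfl⟩
        exact mem_inf.mpr ⟨v.2, mem_cs.mpr (congrArg Subtype.val (mem_cs.mp hv))⟩
      · intro hw
        obtain ⟨hw1, hw2⟩ := mem_inf.mp hw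
        exact ⟨⟨w, hw1⟩, mem_cs.mpr (Subtype.ext (mem_cs.mp hw2)), rfl⟩
    have e2 : Nat.card (centralizer ({(⟨b, hbT⟩ : T)} : Set T)) =
        Nat.card ((centralizer ({(⟨b, hbT⟩ : T)} : Set T)).map T.subtype) :=
      Nat.card_congr ((centralizer ({(⟨b, hbT⟩ : T)} : Set T)).equivMapOfInjective _
        (Subgroup.subtype_injective T)).toEquiv
    rw [e2, e, hQb4]) (by
    rintro e he
    obtain ⟨w, hw, hwe⟩ := (he : (e : G) ∈ cj c W)
    apply Subtype.ext
    change (e : G) * e = 1
    have h5 : c * w * c⁻¹ = e := hwe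
    rw [← h5]
    calc c * w * c⁻¹ * (c * w * c⁻¹) = c * (w * w) * c⁻¹ := by group
      _ = 1 := by rw [hWsq w hw]; group)
  have h5 : Nat.card ((cj c W).subgroupOf T) = Nat.card W := by
    rw [Nat.card_congr (Subgroup.subgroupOfEquivOfLe hle).toEquiv, card_cj]
  omega

/-- THEOREM A: existence of a terminal component of maximal order. -/
theorem exists_terminal (S : Sys G) (hne : ∃ K, S.L K) : ∃ K, S.M K ∧ Terminal K := by
  haveI : Fact (Nat.Prime 2) := ⟨Nat.prime_two⟩
  have hM : ∃ K, S.M K := by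
    have hfin : Set.Finite {K : Subgroup G | S.L K} := Set.toFinite _
    obtain ⟨K, hK, hK'⟩ := Set.exists_max_image _ (fun K : Subgroup G => Nat.card K) hfin hne
    exact ⟨K, hK, hK'⟩
  by_cases hp : ∃ K, S.Paired K
  · have hfin : Set.Finite {p : Subgroup G × Subgroup G | S.Paired p.1 ∧
        p.2 ≤ centralizer (p.1 : Set G) ∧ IsPGroup 2 p.2} := Set.toFinite _
    obtain ⟨K0, hK0⟩ := hp
    obtain ⟨⟨K, T⟩, ⟨h1, h2, h3⟩, h4⟩ := Set.exists_max_image _
      (fun p : Subgroup G × Subgroup G => Nat.card p.2) hfin ⟨(K0, ⊥), hK0, bot_le, IsPGroup.of_bot⟩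
    exact ⟨K, h1.1, terminal_of_paired h1 h2 h3 (fun K' T' h5 h6 h7 => h4 (K', T') ⟨h5, h6, h7⟩)⟩
  · push Not at hp
    obtain ⟨K, hK⟩ := hM
    exact ⟨K, hK, terminal_of_not_paired hK hp⟩

end Cfsg.Agent.OddHalf.D3
end

-- part: OddHalf/D3/Class
section
/-!
# The class of a terminal component

`Frame K`: `K` is quasisimple of even order and terminal.  `Sim L M`: `L = M` or `L` commutes with `M`.
On the conjugates of `K` the relation `Sim` is an equivalence relation; `Cls K` is the class of `K`,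
`stab K` its stabilizer (which contains `C(s)` for every involution `s ∈ C(L)`, `L ∈ Cls K`).
-/

set_option autoImplicit false
set_option linter.style.haveILetI false

namespace Cfsg.Agent.OddHalf.D3

open Subgroup Cfsg Cfsg.Agent.SignalizersComponents
open scoped commutatorElement

section Sim

variable {G : Type*} [Group G]

/-- Equal or commuting. -/
def Sim (L M : Subgroup G) : Prop := L = M ∨ L ≤ centralizer (M : Set G)

theorem Sim.refl (L : Subgroup G) : Sim L L := Or.inl rfl

theorem Sim.symm {L M : Subgroup G} (h : Sim L M) : Sim M L := by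
  rcases h with h | h
  · exact Or.inl h.symm
  · exact Or.inr (comm_symm h)

theorem Sim.conj {L M : Subgroup G} (h : Sim L M) (g : G) : Sim (cj g L) (cj g M) := by
  rcases h with h | h
  · exact Or.inl (by rw [h])
  · exact Or.inr (comm_cj h)

theorem sim_of_comp {t : G} {L M : Subgroup G} (hL : Comp t L) (hM : Comp t M) : Sim L M := by
  by_cases h : L = M
  · exact Or.inl h
  · exact Or.inr (hL.comm hM h)

theorem Sim.trans' [Finite G] {L M N : Subgroup G} (hL : Terminal L) (hN : Terminal N)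
    (hM : 2 ∣ Nat.card M) (h1 : Sim L M) (h2 : Sim M N) : Sim L N := by
  haveI : Fact (Nat.Prime 2) := ⟨Nat.prime_two⟩
  rcases h1 with h1 | h1
  · rw [h1]; exact h2
  rcases h2 with h2 | h2
  · rw [← h2]; exact Or.inr h1
  obtain ⟨t, ht⟩ := exists_prime_orderOf_dvd_card' 2 hM
  have ht' : orderOf (t : G) = 2 := by rw [Subgroup.orderOf_coe]; exact ht
  exact sim_of_comp (hL t ht' (comm_symm h1 t.2)) (hN t ht' (h2 t.2))

end Sim

section Frame

variable {G : Type*} [Group G] [Finite G]

omit [Finite G] in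
theorem Terminal.conj {K : Subgroup G} (h : Terminal K) (g : G) : Terminal (cj g K) := by
  intro y hy hyK
  have h1 : g⁻¹ * y * g ∈ centralizer (K : Set G) := by
    rw [← mem_cj, cj_centralizer]
    exact hyK
  have h2 : orderOf (g⁻¹ * y * g) = 2 := by
    have := orderOf_conj g⁻¹ y
    rw [inv_inv] at this
    rw [this, hy]
  have h3 := (h _ h2 h1).conj g
  have h4 : g * (g⁻¹ * y * g) * g⁻¹ = y := by group
  rwa [h4] at h3

/-- `K` is a terminal quasisimple subgroup of even order. -/
structure Frame (K : Subgroup G) : Prop where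
  quasi : IsQuasisimple K
  even : 2 ∣ Nat.card K
  term : Terminal K

theorem Frame.conj {K : Subgroup G} (h : Frame K) (g : G) : Frame (cj g K) := by
  refine ⟨?_, ?_, h.term.conj g⟩
  · exact Components.isQuasisimple_of_mulEquiv
      (K.equivMapOfInjective (MulAut.conj g).toMonoidHom (MulAut.conj g).injective) h.quasi
  · rw [card_cj]
    exact h.even

theorem Frame.sim_trans {K L M N : Subgroup G} (h : Frame K) (hL : ∃ g, cj g K = L)
    (hM : ∃ g, cj g K = M) (hN : ∃ g, cj g K = N) (h1 : Sim L M) (h2 : Sim M N) : Sim L N := by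
  obtain ⟨gL, rfl⟩ := hL
  obtain ⟨gM, rfl⟩ := hM
  obtain ⟨gN, rfl⟩ := hN
  exact Sim.trans' (h.term.conj _) (h.term.conj _) (h.conj gM).even h1 h2

/-- The stabilizer of the class of `K`. -/
def stab (K : Subgroup G) (h : Frame K) : Subgroup G where
  carrier := {g | Sim (cj g K) K}
  one_mem' := by
    change Sim (cj 1 K) K
    rw [cj_one]
    exact Sim.refl K
  mul_mem' := by
    intro a b ha hb
    change Sim (cj (a * b) K) K
    rw [← cj_cj]
    have h1 : Sim (cj a (cj b K)) (cj a K) := Sim.conj hb a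
    exact h.sim_trans ⟨a * b, by rw [cj_cj]⟩ ⟨a, rfl⟩ ⟨1, cj_one K⟩ h1 ha
  inv_mem' := by
    intro a ha
    change Sim (cj a⁻¹ K) K
    have h1 := Sim.conj (Sim.symm ha) a⁻¹
    rwa [cj_inv_cj] at h1

theorem mem_stab {K : Subgroup G} (h : Frame K) {g : G} : g ∈ stab K h ↔ Sim (cj g K) K := Iff.rfl

/-- The class of `K`: the conjugates of `K` which are equal to `K` or commute with `K`. -/
def Cls (K : Subgroup G) : Set (Subgroup G) := {L | (∃ g, cj g K = L) ∧ Sim L K}

omit [Finite G] in
theorem self_mem_Cls (K : Subgroup G) : K ∈ Cls K := ⟨⟨1, cj_one K⟩, Sim.refl K⟩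

theorem mem_Cls_iff {K L : Subgroup G} (h : Frame K) : L ∈ Cls K ↔ ∃ g ∈ stab K h, cj g K = L := by
  constructor
  · rintro ⟨⟨g, rfl⟩, h1⟩
    exact ⟨g, h1, rfl⟩
  · rintro ⟨g, hg, rfl⟩
    exact ⟨⟨g, rfl⟩, hg⟩

theorem sim_of_mem_Cls {K L M : Subgroup G} (h : Frame K) (hL : L ∈ Cls K) (hM : M ∈ Cls K) :
    Sim L M :=
  h.sim_trans hL.1 ⟨1, cj_one K⟩ hM.1 hL.2 hM.2.symm

theorem comm_of_mem_Cls {K L M : Subgroup G} (h : Frame K) (hL : L ∈ Cls K) (hM : M ∈ Cls K)
    (hne : L ≠ M) : L ≤ centralizer (M : Set G) := by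
  rcases sim_of_mem_Cls h hL hM with h1 | h1
  · exact absurd h1 hne
  · exact h1

theorem cj_mem_Cls {K L : Subgroup G} (h : Frame K) {g : G} (hg : g ∈ stab K h) (hL : L ∈ Cls K) :
    cj g L ∈ Cls K := by
  obtain ⟨a, ha, rfl⟩ := (mem_Cls_iff h).mp hL
  rw [cj_cj]
  exact (mem_Cls_iff h).mpr ⟨g * a, mul_mem hg ha, rfl⟩

/-- If two conjugates `L`, `M ^ g` with `L, M` in the class are similar then `g` stabilizes it. -/
theorem mem_stab_of_sim {K L M : Subgroup G} (h : Frame K) (hL : L ∈ Cls K) (hM : M ∈ Cls K) {g : G}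
    (hs : Sim (cj g M) L) : g ∈ stab K h := by
  rw [mem_stab]
  have h1 : Sim (cj g K) (cj g M) := (hM.2.symm).conj g
  have hMg : ∃ a, cj a K = cj g M := by
    obtain ⟨b, rfl⟩ := hM.1
    exact ⟨g * b, (cj_cj g b K).symm⟩
  have h2 := h.sim_trans ⟨g, rfl⟩ hMg hL.1 h1 hs
  exact h.sim_trans ⟨g, rfl⟩ hL.1 ⟨1, cj_one K⟩ h2 hL.2

theorem mem_stab_of_cj_eq {K L M : Subgroup G} (h : Frame K) (hL : L ∈ Cls K) (hM : M ∈ Cls K) {g : G}
    (hs : cj g M = L) : g ∈ stab K h := mem_stab_of_sim h hL hM (Or.inl hs)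

theorem Frame.of_mem_Cls {K L : Subgroup G} (h : Frame K) (hL : L ∈ Cls K) : Frame L := by
  obtain ⟨g, rfl⟩ := hL.1
  exact h.conj g

theorem normalizer_self_le_stab {K L : Subgroup G} (h : Frame K) (hL : L ∈ Cls K) :
    normalizer (L : Set G) ≤ stab K h := by
  intro g hg
  exact mem_stab_of_cj_eq h hL hL (mem_normalizer_iff_cj.mp hg)

theorem le_stab {K L : Subgroup G} (h : Frame K) (hL : L ∈ Cls K) : L ≤ stab K h :=
  le_normalizer.trans (normalizer_self_le_stab h hL)

theorem centralizer_self_le_stab {K L : Subgroup G} (h : Frame K) (hL : L ∈ Cls K) :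
    centralizer (L : Set G) ≤ stab K h :=
  (centralizer_le_normalizer _).trans (normalizer_self_le_stab h hL)

/-- If the stabilizer is everything then `K` is a component of `G`. -/
theorem isComponent_of_stab_eq_top {K : Subgroup G} (h : Frame K) (htop : stab K h = ⊤) :
    IsComponent K := by
  refine ⟨?_, h.quasi⟩
  -- `K` is normal in its normal closure, the product of its conjugates
  set M : Subgroup G := normalClosure (K : Set G) with hM
  have hKM : K ≤ M := subset_normalClosure
  have hMn : M ≤ normalizer (K : Set G) := by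
    rw [hM, normalClosure, closure_le]
    intro x hx
    rw [Group.mem_conjugatesOfSet_iff] at hx
    obtain ⟨k, hk, hkx⟩ := hx
    obtain ⟨g, rfl⟩ := isConj_iff.mp hkx
    have h1 : g ∈ stab K h := by rw [htop]; exact mem_top g
    rcases (mem_stab h).mp h1 with h2 | h2
    · have h3 : g * k * g⁻¹ ∈ cj g K := conj_mem_cj hk
      rw [h2] at h3
      exact le_normalizer h3
    · exact centralizer_le_normalizer _ (h2 (conj_mem_cj hk))
  have h1 : (K.subgroupOf M).Normal := Subgroup.normal_subgroupOf_iff_le_normalizer hKM |>.mpr hMn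
  exact Subgroup.IsSubnormal.trans hKM h1.isSubnormal (normalClosure_normal.isSubnormal)

/-- In a simple group the stabilizer of a nontrivial class is proper. -/
theorem stab_ne_top {K : Subgroup G} [IsSimpleGroup G] (h : Frame K) (hnt : ∃ L ∈ Cls K, L ≠ K) :
    stab K h ≠ ⊤ := by
  intro htop
  have h1 := isComponent_of_stab_eq_top h htop
  rcases Subgroup.IsSubnormal.eq_bot_or_top_of_isSimpleGroup inferInstance h1.1 with h2 | h2
  · exact Components.component_ne_bot h1 h2
  · obtain ⟨L, hL, hne⟩ := hnt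
    obtain ⟨g, rfl⟩ := hL.1
    apply hne
    rw [h2]
    exact Subgroup.map_top_of_surjective _ (MulAut.conj g).surjective

end Frame

end Cfsg.Agent.OddHalf.D3
end
end

-- part: OddHalf/D3/Inst
section
set_option linter.all false
open scoped Cfsg.Agent.FastGrp

/-!
# The system of components of involution centralizers

`odd order theorem` is kept as the hypothesis `FT G` (the file `D3/Main.lean` discharges it).
-/

set_option autoImplicit false
set_option linter.style.haveILetI false

namespace Cfsg.Agent.OddHalf.D3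

open Subgroup Cfsg Cfsg.Agent.SignalizersComponents
open scoped commutatorElement

variable {G : Type*} [Group G] [Finite G]

/-- The odd order theorem for the subgroups of `G`. -/
def FT (G : Type*) [Group G] : Prop := ∀ H : Subgroup G, Odd (Nat.card H) → Group.IsSolvable H

/-- `L_{2'}(C(y)) = E(C(y))` for every involution `y`. -/
def BL (G : Type*) [Group G] : Prop :=
  ∀ y : G, orderOf y = 2 → pLayer 2 ↥(centralizer ({y} : Set G)) = layer ↥(centralizer ({y} : Set G))

omit [Finite G] in
theorem FT.even (h : FT G) {K : Subgroup G} (hK : IsQuasisimple K) : 2 ∣ Nat.card K := by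
  by_contra hodd
  have h1 : Odd (Nat.card K) := by
    rwa [← Nat.not_even_iff_odd, even_iff_two_dvd]
  exact Components.quasisimple_not_isSolvable hK (h K h1)

omit [Finite G] in
theorem FT.even' (h : FT G) {C : Subgroup G} {K : Subgroup C} (hK : IsQuasisimple K) :
    2 ∣ Nat.card K := by
  have e := K.equivMapOfInjective C.subtype (Subgroup.subtype_injective C)
  have h1 := h.even (Components.isQuasisimple_of_mulEquiv e hK)
  rwa [← Nat.card_congr e.toEquiv] at h1

/-- The B-property gives `L_{2'}(C(y)) = E(C(y))` when `O(G) = 1`. -/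
theorem bl_of_B (hFT : FT G) (hO : oddCore G = ⊥) (hB : HasBProperty G) : BL G := by
  haveI : Fact (Nat.Prime 2) := ⟨Nat.prime_two⟩
  intro y hy
  have h0 : ⁅pLayer 2 ↥(centralizer ({y} : Set G)), oddCore ↥(centralizer ({y} : Set G))⁆ = ⊥ := by
    have h1 := hB y hy
    rw [hO, le_bot_iff, Subgroup.map_eq_bot_iff_of_injective _ (Subgroup.subtype_injective _)] at h1
    exact h1
  apply le_antisymm
  · apply sSup_le
    intro J hJ
    have h1 : ⁅J, pPrimeCore 2 ↥(centralizer ({y} : Set G))⁆ = ⊥ := by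
      rw [eq_bot_iff, ← h0]
      exact commutator_mono (le_sSup hJ) le_rfl
    exact Components.component_le_layer
      (ClassificationK.PCompTransport.isComponent_of_isPComponent 2 hJ h1)
  · rw [Components.layer_le_iff]
    intro K hK
    exact le_sSup (EvenComponent.isPComponent_of_isComponent hK (hFT.even' hK.2))

/-- L-balance: an even order component of `C(t)` lies in the layer. -/
theorem le_layer {X : Type*} [Group X] [Finite X] (hL2 : pLayer 2 X = layer X) {t : X}
    (ht : orderOf t = 2) {L : Subgroup X} (hL : Comp t L) (h2 : 2 ∣ Nat.card L) : L ≤ layer X := by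
  haveI : Fact (Nat.Prime 2) := ⟨Nat.prime_two⟩
  have heven : 2 ∣ Nat.card (L.subgroupOf (Subgroup.centralizer ({t} : Set X))) := by
    rw [Nat.card_congr (Subgroup.subgroupOfEquivOfLe hL.le).toEquiv]
    exact h2
  have h2 := EvenComponent.isPComponent_of_isComponent hL.comp heven
  have h3 := Cfsg.Agent.S1301.result (Subgroup.zpowers t) (isPGroup_zpowers ht)
  have hc : Subgroup.centralizer ((Subgroup.zpowers t : Subgroup X) : Set X) =
      Subgroup.centralizer ({t} : Set X) := by
    rw [Subgroup.zpowers_eq_closure, Subgroup.centralizer_closure]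
  rw [hc, hL2] at h3
  refine le_trans ?_ h3
  have h4 := Subgroup.map_mono (f := (Subgroup.centralizer ({t} : Set X)).subtype)
    (show L.subgroupOf (Subgroup.centralizer ({t} : Set X)) ≤
      Cfsg.pLayer 2 (Subgroup.centralizer ({t} : Set X)) from le_sSup h2)
  rwa [Subgroup.map_subgroupOf_eq_of_le hL.le] at h4

/-- The pump-up of a component. -/
theorem exists_pump (hFT : FT G) (hB : BL G) {K : Subgroup G} {x y : G} (hx : orderOf x = 2)
    (hK : Comp x K) (hy : orderOf y = 2) (hxy : x * y = y * x) (hyK : y ∈ centralizer (K : Set G)) :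
    ∃ D : Subgroup G, Comp y D ∧ (K = D ∨ K < D ∨
      (cj x D ≠ D ∧ (∀ d ∈ D, d * (x * d * x⁻¹) ∈ K) ∧ ∀ k ∈ K, ∃ d ∈ D, k = d * (x * d * x⁻¹))) := by
  set Y : Subgroup G := centralizer ({y} : Set G) with hY
  have hxY : x ∈ Y := mem_cs.mpr hxy
  have hKY : K ≤ Y := by
    intro k hk
    exact mem_cs.mpr (mem_centralizer_iff.mp hyK k hk)
  have h1 := comp_subgroupOf hxY hKY hK
  have hx' : orderOf (⟨x, hxY⟩ : Y) = 2 := by rw [Subgroup.orderOf_mk, hx]
  have h2 : 2 ∣ Nat.card (K.subgroupOf Y) := hFT.even' h1.quasi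
  have h3 := le_layer (hB y hy) hx' h1 h2
  have hsq : (⟨x, hxY⟩ : Y) * ⟨x, hxY⟩ = 1 := sq_of_order hx'
  obtain ⟨D, hD, hcase⟩ := trichotomy_of_le_layer (⟨x, hxY⟩ : Y) hsq (K.subgroupOf Y) h1 h3
  refine ⟨D.map Y.subtype, comp_map hD, ?_⟩
  have hKm : (K.subgroupOf Y).map Y.subtype = K := Subgroup.map_subgroupOf_eq_of_le hKY
  rcases hcase with h | h | ⟨h4, h5, h6⟩
  · left
    rw [← h, hKm]
  · right; left
    have := (Subgroup.map_lt_map_iff_of_injective (Subgroup.subtype_injective Y)).mpr h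
    rwa [hKm] at this
  · right; right
    refine ⟨?_, ?_, ?_⟩
    · intro h7
      apply h4
      have h8 := cj_map_subtype D (⟨x, hxY⟩ : Y)
      change (cj (⟨x, hxY⟩ : Y) D).map Y.subtype = cj x (D.map Y.subtype) at h8
      rw [h7] at h8
      exact Subgroup.map_injective (Subgroup.subtype_injective Y) h8
    · rintro _ ⟨d, hd, rfl⟩
      exact h5 d hd
    · intro k hk
      obtain ⟨d, hd, hkd⟩ := h6 ⟨k, hKY hk⟩ hk
      exact ⟨d, ⟨d, hd, rfl⟩, congrArg Subtype.val hkd⟩

/-- The system given by a conjugation invariant family `P` closed under pump-ups. -/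
def sysOf (hFT : FT G) (hB : BL G) (P : Subgroup G → Prop)
    (hconj : ∀ (g : G) (K : Subgroup G), P K → P (cj g K))
    (hpump : ∀ (K D : Subgroup G) (x y : G), P K → orderOf x = 2 → Comp x K → orderOf y = 2 →
      x * y = y * x → y ∈ centralizer (K : Set G) → Comp y D → (K < D ∨
        (cj x D ≠ D ∧ (∀ d ∈ D, d * (x * d * x⁻¹) ∈ K) ∧ ∀ k ∈ K, ∃ d ∈ D, k = d * (x * d * x⁻¹))) →
      P D) : Sys G where
  F K := P K ∧ IsQuasisimple K
  conj := by
    rintro g K ⟨h1, h2⟩
    exact ⟨hconj g K h1, Components.isQuasisimple_of_mulEquiv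
      (K.equivMapOfInjective (MulAut.conj g).toMonoidHom (MulAut.conj g).injective) h2⟩
  even := by
    rintro K ⟨-, h2⟩
    exact hFT.even h2
  pump := by
    rintro K x y ⟨h1, h2⟩ hx hK hy hxy hyK
    obtain ⟨D, hD, hcase⟩ := exists_pump hFT hB hx hK hy hxy hyK
    refine ⟨D, ⟨?_, hD.quasi⟩, hD, hcase⟩
    rcases hcase with h | h
    · rw [← h]; exact h1
    · exact hpump K D x y h1 hx hK hy hxy hyK hD h

/-- THEOREM A for all components. -/
theorem exists_terminal_component (hFT : FT G) (hB : BL G) (hct : ∃ (t : G) (K : Subgroup G),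
    orderOf t = 2 ∧ Comp t K) :
    ∃ (x : G) (K : Subgroup G), orderOf x = 2 ∧ Comp x K ∧ Frame K ∧
      ∀ (y : G) (L : Subgroup G), orderOf y = 2 → Comp y L → Nat.card L ≤ Nat.card K := by
  let S := sysOf hFT hB (fun _ => True) (fun _ _ h => h) (fun _ _ _ _ _ _ _ _ _ _ _ _ => trivial)
  have hS : ∀ K : Subgroup G, S.L K ↔ ∃ x : G, orderOf x = 2 ∧ Comp x K := by
    intro K
    constructor
    · rintro ⟨-, h⟩
      exact h
    · rintro ⟨x, hx, h⟩
      exact ⟨⟨trivial, h.quasi⟩, x, hx, h⟩
  obtain ⟨t, K0, ht, hK0⟩ := hct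
  obtain ⟨K, hM, hT⟩ := exists_terminal S ⟨K0, (hS K0).mpr ⟨t, ht, hK0⟩⟩
  obtain ⟨x, hx, hxK⟩ := (hS K).mp hM.1
  refine ⟨x, K, hx, hxK, ⟨hxK.quasi, hFT.even hxK.quasi, hT⟩, fun y L hy hL => ?_⟩
  exact hM.2 L ((hS L).mpr ⟨y, hy, hL⟩)

end Cfsg.Agent.OddHalf.D3
end

-- part: OddHalf/NI/LemmaP
section
set_option linter.all false
open scoped Cfsg.Agent.FastGrp

/-!
# LEMMA P: components of `C(e) ∩ C(z)` and the pump-ups in `C(e)`

`CompIn H K`: `K` is a component of the subgroup `H`. `Dg K D x`: `K = {d d^x : d ∈ D}`, `D` commutes with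
`D^x ≠ D` (no injectivity).
-/

set_option autoImplicit false
set_option linter.style.haveILetI false

namespace Cfsg.Agent.OddHalf.NI

open Subgroup Cfsg Cfsg.Agent.SignalizersComponents Cfsg.Agent.OddHalf.D3
open scoped commutatorElement

section CompIn

variable {G : Type*} [Group G]

/-- `K` is a component of `H`. -/
structure CompIn (H K : Subgroup G) : Prop where
  le : K ≤ H
  comp : IsComponent (K.subgroupOf H)

theorem compIn_of_comp {t : G} {K : Subgroup G} (h : Comp t K) :
    CompIn (centralizer ({t} : Set G)) K := ⟨h.le, h.comp⟩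

theorem CompIn.toComp {t : G} {K : Subgroup G} (h : CompIn (centralizer ({t} : Set G)) K) :
    Comp t K := ⟨h.le, h.comp⟩

theorem CompIn.quasi {H K : Subgroup G} (h : CompIn H K) : IsQuasisimple K :=
  (Components.isQuasisimple_congr (Subgroup.subgroupOfEquivOfLe h.le)).mp h.comp.2

theorem CompIn.perfect {H K : Subgroup G} (h : CompIn H K) : ⁅K, K⁆ = K :=
  Subgroup.isPerfect_iff.mp h.quasi.1

/-- A component of `H` contained in `H' ≤ H` is a component of `H'`. -/
theorem CompIn.mono {H H' K : Subgroup G} (h : CompIn H K) (hK : K ≤ H') (hH : H' ≤ H) :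
    CompIn H' K := by
  refine ⟨hK, ?_, ?_⟩
  · have h1 : K.subgroupOf H' = (K.subgroupOf H).comap (Subgroup.inclusion hH) := rfl
    rw [h1]
    exact h.comp.1.comap _
  · exact Components.isQuasisimple_of_mulEquiv (Subgroup.subgroupOfEquivOfLe hK).symm h.quasi

theorem CompIn.comm {H K L : Subgroup G} (hK : CompIn H K) (hL : CompIn H L) (hne : K ≠ L) :
    K ≤ centralizer (L : Set G) := by
  have h1 : K.subgroupOf H ≠ L.subgroupOf H := by
    intro h
    apply hne
    have := congrArg (Subgroup.map H.subtype) h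
    rwa [Subgroup.map_subgroupOf_eq_of_le hK.le, Subgroup.map_subgroupOf_eq_of_le hL.le] at this
  have h2 := Components.component_le_centralizer_of_ne hK.comp hL.comp h1
  intro x hx
  rw [mem_centralizer_iff]
  intro y hy
  have h3 := h2 (show (⟨x, hK.le hx⟩ : H) ∈ K.subgroupOf _ from hx)
  exact congrArg Subtype.val (mem_centralizer_iff.mp h3 ⟨y, hL.le hy⟩ hy)

/-- A component of `H` contained in a quasisimple subgroup `L` of `H` is equal to `L`. -/
theorem CompIn.eq_of_le {H K L : Subgroup G} (hK : CompIn H K) (hL : IsQuasisimple L) (hLH : L ≤ H)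
    (hKL : K ≤ L) : K = L := by
  have h1 := (hK.mono hKL hLH).comp
  rcases Components.quasisimple_subnormal hL h1.1 with h | h
  · exact le_antisymm hKL (by rwa [Subgroup.subgroupOf_eq_top] at h)
  · exfalso
    apply Components.quasisimple_center_ne_top h1.2
    rw [eq_top_iff]
    intro x _
    rw [mem_center_iff]
    intro g
    apply Subtype.ext
    exact mem_center_iff.mp (h x.2) g

theorem CompIn.conj {H K : Subgroup G} (h : CompIn H K) (g : G) : CompIn (cj g H) (cj g K) :=
  ⟨cj_mono h.le, DistinctComponents.isComponent_subgroupOf_conj h.le h.comp g⟩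

theorem CompIn.conj_of_norm {H K : Subgroup G} (h : CompIn H K) {g : G} (hg : cj g H = H) :
    CompIn H (cj g K) := by
  have h1 := h.conj g
  rwa [hg] at h1

/-- Transport to the group `↥X`. -/
theorem CompIn.subgroupOf {X H K : Subgroup G} (h : CompIn H K) (hHX : H ≤ X) :
    CompIn (H.subgroupOf X) (K.subgroupOf X) := by
  refine ⟨?_, ?_, ?_⟩
  · intro x hx
    exact h.le hx
  · let ι : (H.subgroupOf X) →* H := (Subgroup.subgroupOfEquivOfLe hHX).toMonoidHom
    have h2 : (K.subgroupOf X).subgroupOf (H.subgroupOf X) = (K.subgroupOf H).comap ι := rfl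
    rw [h2]
    exact h.comp.1.comap ι
  · have hle : K.subgroupOf X ≤ H.subgroupOf X := fun x hx => h.le hx
    have e1 := Subgroup.subgroupOfEquivOfLe hle
    have e2 := Subgroup.subgroupOfEquivOfLe (h.le.trans hHX)
    exact Components.isQuasisimple_of_mulEquiv (e1.trans e2).symm h.quasi

/-- The other direction. -/
theorem compIn_map {X : Subgroup G} {H K : Subgroup X} (h : CompIn H K) :
    CompIn (H.map X.subtype) (K.map X.subtype) := by
  have hle : K.map X.subtype ≤ H.map X.subtype := Subgroup.map_mono h.le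
  refine ⟨hle, ?_, ?_⟩
  · let e := (H.equivMapOfInjective X.subtype (Subgroup.subtype_injective X))
    have h2 : (K.map X.subtype).subgroupOf (H.map X.subtype) =
        (K.subgroupOf H).comap e.symm.toMonoidHom := by
      ext x
      rw [Subgroup.mem_subgroupOf, Subgroup.mem_comap, Subgroup.mem_subgroupOf]
      obtain ⟨y, rfl⟩ := e.surjective x
      have h3 : e.symm.toMonoidHom (e y) = y := e.symm_apply_apply y
      rw [h3]
      change X.subtype (y : X) ∈ K.map X.subtype ↔ (y : X) ∈ K
      exact Subgroup.mem_map_iff_mem (Subgroup.subtype_injective X)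
    rw [h2]
    exact h.comp.1.comap _
  · have e1 := Subgroup.subgroupOfEquivOfLe hle
    have e2 := K.equivMapOfInjective X.subtype (Subgroup.subtype_injective X)
    exact Components.isQuasisimple_of_mulEquiv (e2.trans e1.symm) h.quasi

theorem subgroupOf_inf_cs {X : Subgroup G} (x : X) :
    (X ⊓ centralizer ({(x : G)} : Set G)).subgroupOf X = centralizer ({x} : Set X) := by
  ext y
  rw [Subgroup.mem_subgroupOf, mem_inf, mem_cs, mem_cs]
  constructor
  · intro h
    exact Subtype.ext h.2
  · intro h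
    exact ⟨y.2, congrArg Subtype.val h⟩

/-- A component of `C_X(x)` as a component of the centralizer of `x` in the group `↥X`. -/
theorem CompIn.comp_of {X K : Subgroup G} {x : G} (hx : x ∈ X)
    (h : CompIn (X ⊓ centralizer ({x} : Set G)) K) :
    Comp (⟨x, hx⟩ : X) (K.subgroupOf X) := by
  have h1 := h.subgroupOf (X := X) inf_le_left
  have h2 := subgroupOf_inf_cs (⟨x, hx⟩ : X)
  change (X ⊓ centralizer ({x} : Set G)).subgroupOf X = _ at h2
  rw [h2] at h1
  exact h1.toComp

theorem compIn_of_comp_sub {X : Subgroup G} {x : X} {K : Subgroup X} (h : Comp x K) :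
    CompIn (X ⊓ centralizer ({(x : G)} : Set G)) (K.map X.subtype) := by
  have h1 := compIn_map (compIn_of_comp h)
  rw [← subgroupOf_inf_cs x, Subgroup.map_subgroupOf_eq_of_le inf_le_left] at h1
  exact h1

/-- Components of components. -/
theorem CompIn.trans {H K L : Subgroup G} (h1 : CompIn K L) (h2 : CompIn H K) : CompIn H L := by
  refine ⟨h1.le.trans h2.le, ?_, ?_⟩
  · have h5 : (L.subgroupOf H) ≤ K.subgroupOf H := fun x hx => h1.le hx
    refine Subgroup.IsSubnormal.trans h5 ?_ h2.comp.1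
    have h6 : (L.subgroupOf H).subgroupOf (K.subgroupOf H) =
        (L.subgroupOf K).comap (Subgroup.subgroupOfEquivOfLe h2.le).toMonoidHom := rfl
    rw [h6]
    exact h1.comp.1.comap _
  · exact Components.isQuasisimple_of_mulEquiv (Subgroup.subgroupOfEquivOfLe (h1.le.trans h2.le)).symm
      h1.quasi

end CompIn

section Dg

variable {G : Type*} [Group G]

/-- `K = {d d^x : d ∈ D}`, where `D` commutes with `D^x ≠ D`. -/
structure Dg (K D : Subgroup G) (x : G) : Prop where
  quasi : IsQuasisimple D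
  xx : x * x = 1
  xK : x ∈ centralizer (K : Set G)
  ne : cj x D ≠ D
  comm : D ≤ centralizer ((cj x D : Subgroup G) : Set G)
  mem : ∀ d ∈ D, d * (x * d * x⁻¹) ∈ K
  ex : ∀ k ∈ K, ∃ d ∈ D, k = d * (x * d * x⁻¹)

theorem Dg.cj_cj {K D : Subgroup G} {x : G} (h : Dg K D x) : cj x (cj x D) = D := by
  rw [D3.cj_cj, h.xx, cj_one]

/-- `D` does not commute with `K`. -/
theorem Dg.not_comm {K D : Subgroup G} {x : G} (h : Dg K D x) :
    ¬ D ≤ centralizer (K : Set G) := by
  intro h1
  apply not_comm_self h.quasi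
  intro d hd
  rw [mem_centralizer_iff]
  intro e he
  have h2 : d * (e * (x * e * x⁻¹)) = (e * (x * e * x⁻¹)) * d := comm_elt h1 hd (h.mem e he)
  have h3 : d * (x * e * x⁻¹) = (x * e * x⁻¹) * d := comm_elt h.comm hd (conj_mem_cj he)
  calc e * d = (e * (x * e * x⁻¹)) * ((x * e * x⁻¹)⁻¹ * d) := by group
    _ = (e * (x * e * x⁻¹)) * (d * (x * e * x⁻¹)⁻¹) := by
        congr 1
        rw [inv_mul_eq_iff_eq_mul, ← mul_assoc, eq_mul_inv_iff_mul_eq, h3]
    _ = ((e * (x * e * x⁻¹)) * d) * (x * e * x⁻¹)⁻¹ := by group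
    _ = (d * (e * (x * e * x⁻¹))) * (x * e * x⁻¹)⁻¹ := by rw [h2]
    _ = d * e := by group

theorem Dg.not_comm' {K D : Subgroup G} {x : G} (h : Dg K D x) :
    ¬ cj x D ≤ centralizer (K : Set G) := by
  rw [not_comm_conj h.xK]
  exact h.not_comm

/-- Components of `C(y)` other than `D`, `D^x` commute with `K`. -/
theorem Dg.comm_of_ne {K D E : Subgroup G} {x y : G} (h : Dg K D x) (hxy : x * y = y * x)
    (hD : Comp y D) (hE : Comp y E) (h1 : E ≠ D) (h2 : E ≠ cj x D) :
    E ≤ centralizer (K : Set G) := by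
  have c1 := hE.comm hD h1
  have c2 := hE.comm (hD.conj_of_comm hxy) h2
  intro e he
  rw [mem_centralizer_iff]
  intro k hk
  obtain ⟨d, hd, rfl⟩ := h.ex k hk
  have e1 : e * d = d * e := comm_elt c1 he hd
  have e2 : e * (x * d * x⁻¹) = (x * d * x⁻¹) * e := comm_elt c2 he (conj_mem_cj hd)
  calc d * (x * d * x⁻¹) * e = d * ((x * d * x⁻¹) * e) := by group
    _ = (d * e) * (x * d * x⁻¹) := by rw [← e2]; group
    _ = e * (d * (x * d * x⁻¹)) := by rw [← e1]; group

/-- The components of `C(y)` not commuting with `K` are `D` and `D^x`. -/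
theorem Dg.eq_or_eq {K D E : Subgroup G} {x y : G} (h : Dg K D x) (hxy : x * y = y * x)
    (hD : Comp y D) (hE : Comp y E) (hn : ¬ E ≤ centralizer (K : Set G)) : E = D ∨ E = cj x D := by
  by_contra hcon
  push Not at hcon
  exact hn (h.comm_of_ne hxy hD hE hcon.1 hcon.2)

/-- `C(y) ∩ C(K)` permutes `D` and `D^x`. -/
theorem Dg.perm {K D : Subgroup G} {x y q : G} (h : Dg K D x) (hxy : x * y = y * x)
    (hD : Comp y D) (hqy : q * y = y * q) (hq : q ∈ centralizer (K : Set G)) :
    (cj q D = D ∧ cj q (cj x D) = cj x D) ∨ (cj q D = cj x D ∧ cj q (cj x D) = D) := by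
  have h1 := h.eq_or_eq hxy hD (hD.conj_of_comm hqy) (by rw [not_comm_conj hq]; exact h.not_comm)
  have h2 := h.eq_or_eq hxy hD ((hD.conj_of_comm hxy).conj_of_comm hqy)
    (by rw [not_comm_conj hq]; exact h.not_comm')
  rcases h1 with h1 | h1
  · rcases h2 with h2 | h2
    · exfalso
      apply h.ne
      apply cj_injective q
      rw [h1, h2]
    · exact Or.inl ⟨h1, h2⟩
  · rcases h2 with h2 | h2
    · exact Or.inr ⟨h1, h2⟩
    · exfalso
      apply h.ne
      apply cj_injective q
      rw [h1, h2]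

/-- An element of `C(y) ∩ C(K)` which normalizes `D` centralizes `D`. -/
theorem Dg.centralizes {K D : Subgroup G} {x y q : G} (h : Dg K D x) (hxy : x * y = y * x)
    (hD : Comp y D) (hqy : q * y = y * q) (hq : q ∈ centralizer (K : Set G)) (hqD : cj q D = D) :
    q ∈ centralizer (D : Set G) := by
  have hq2 : cj q (cj x D) = cj x D := by
    rcases h.perm hxy hD hqy hq with h1 | h1
    · exact h1.2
    · exact absurd (h1.1.symm.trans hqD) h.ne
  have hqn : q ∈ normalizer (D : Set G) := mem_normalizer_iff_cj.mpr hqD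
  let α : D ≃* D := D.normalizerMonoidHom ⟨q, hqn⟩
  have hα : ∀ d : D, ((α d : D) : G) = q * d * q⁻¹ := fun d => rfl
  have key : ∀ d : D, α d * d⁻¹ ∈ Subgroup.center D := by
    intro d
    have hd : (d : G) ∈ D := d.2
    set e : G := x * d * x⁻¹ with he
    have heD : e ∈ cj x D := conj_mem_cj hd
    have he' : q * e * q⁻¹ ∈ cj x D := by
      have := conj_mem_cj (g := q) heD
      rwa [hq2] at this
    have hk : ((d : G) * e) * q = q * ((d : G) * e) := mem_centralizer_iff.mp hq _ (h.mem d hd)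
    -- q d q⁻¹ * q e q⁻¹ = d e
    have h1 : (q * d * q⁻¹) * (q * e * q⁻¹) = d * e := by
      calc (q * d * q⁻¹) * (q * e * q⁻¹) = q * (d * e) * q⁻¹ := by group
        _ = d * e := by rw [← hk]; group
    have h2 : (α d : G) * (d : G)⁻¹ = (d : G) * (e * (q * e * q⁻¹)⁻¹) * (d : G)⁻¹ := by
      rw [hα]
      have : q * d * q⁻¹ = (d : G) * e * (q * e * q⁻¹)⁻¹ := by
        rw [← h1]; group
      rw [this]; group
    have hz : e * (q * e * q⁻¹)⁻¹ ∈ cj x D := mul_mem heD (inv_mem he')
    rw [mem_center_iff]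
    intro g
    apply Subtype.ext
    change (g : G) * ((α d : G) * (d : G)⁻¹) = ((α d : G) * (d : G)⁻¹) * g
    rw [h2]
    have c1 := comm_elt h.comm hd hz
    have c2 := comm_elt h.comm g.2 hz
    have e3 : (d : G) * (e * (q * e * q⁻¹)⁻¹) * (d : G)⁻¹ = e * (q * e * q⁻¹)⁻¹ := by
      rw [c1]; group
    rw [e3, c2]
  have hfix := Cfsg.Agent.S1304.result (hD.quasi.1.commutator_eq_top) α key
  rw [mem_centralizer_iff]
  intro d hd
  have h1 := congrArg Subtype.val (hfix ⟨d, hd⟩)
  change q * d * q⁻¹ = d at h1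
  calc d * q = (q * d * q⁻¹) * q := by rw [h1]
    _ = q * d := by group

/-- A perfect subgroup of `C(y) ∩ C(K)` centralizes `D`. -/
theorem Dg.perfect_centralizes {K D B : Subgroup G} {x y : G} (h : Dg K D x) (hxy : x * y = y * x)
    (hD : Comp y D) (hBy : B ≤ centralizer ({y} : Set G)) (hBK : B ≤ centralizer (K : Set G))
    (hB : ⁅B, B⁆ = B) : B ≤ centralizer (D : Set G) := by
  have key : ⁅B, B⁆ ≤ normalizer (D : Set G) := by
    rw [commutator_le]
    intro u hu v hv
    rw [mem_normalizer_iff_cj, commutatorElement_def, ← D3.cj_cj, ← D3.cj_cj, ← D3.cj_cj]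
    have hu' := h.perm hxy hD (mem_cs.mp (hBy hu)) (hBK hu)
    have hv' := h.perm hxy hD (mem_cs.mp (hBy hv)) (hBK hv)
    have ui : ∀ {E F : Subgroup G}, cj u E = F → cj u⁻¹ F = E := by
      rintro E F rfl
      exact cj_inv_cj u E
    have vi : ∀ {E F : Subgroup G}, cj v E = F → cj v⁻¹ F = E := by
      rintro E F rfl
      exact cj_inv_cj v E
    rcases hu' with ⟨u1, u2⟩ | ⟨u1, u2⟩ <;> rcases hv' with ⟨v1, v2⟩ | ⟨v1, v2⟩
    · rw [vi v1, ui u1, v1, u1]
    · rw [vi v2, ui u2, v2, u1]
    · rw [vi v1, ui u2, v2, u2]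
    · rw [vi v2, ui u1, v1, u2]
  rw [hB] at key
  intro b hb
  exact h.centralizes hxy hD (mem_cs.mp (hBy hb)) (hBK hb) (mem_normalizer_iff_cj.mp (key hb))

end Dg

section Pump

variable {G : Type*} [Group G] [Finite G]

/-- The pump-up in `C(e)` of a component of `C(e) ∩ C(z)`. -/
theorem pump2 (hFT : FT G) (hB : BL G) {e z : G} (he : orderOf e = 2) (hz : orderOf z = 2)
    (hez : e * z = z * e) {K : Subgroup G}
    (hK : CompIn (centralizer ({e} : Set G) ⊓ centralizer ({z} : Set G)) K) :
    ∃ D : Subgroup G, Comp e D ∧ (K = D ∨ (K < D ∧ cj z D = D) ∨ Dg K D z) := by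
  set Y : Subgroup G := centralizer ({e} : Set G) with hY
  have hzY : z ∈ Y := mem_cs.mpr hez.symm
  have hKY : K ≤ Y := hK.le.trans inf_le_left
  have hKz : K ≤ centralizer ({z} : Set G) := hK.le.trans inf_le_right
  have hzK : z ∈ centralizer (K : Set G) := by
    rw [mem_centralizer_iff]
    intro x hx
    exact mem_cs.mp (hKz hx)
  have h1 : Comp (⟨z, hzY⟩ : Y) (K.subgroupOf Y) := hK.comp_of hzY
  have hz' : orderOf (⟨z, hzY⟩ : Y) = 2 := by rw [Subgroup.orderOf_mk, hz]
  have h2 : 2 ∣ Nat.card (K.subgroupOf Y) := hFT.even' h1.quasi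
  have h3 := le_layer (hB e he) hz' h1 h2
  have hsq : (⟨z, hzY⟩ : Y) * ⟨z, hzY⟩ = 1 := sq_of_order hz'
  obtain ⟨D, hD, hcase⟩ := trichotomy_of_le_layer (⟨z, hzY⟩ : Y) hsq (K.subgroupOf Y) h1 h3
  have hDc : Comp e (D.map Y.subtype) := comp_map hD
  refine ⟨D.map Y.subtype, hDc, ?_⟩
  have hKm : (K.subgroupOf Y).map Y.subtype = K := Subgroup.map_subgroupOf_eq_of_le hKY
  have hlt : ∀ D' : Subgroup G, Comp e D' → K ≤ D' → cj z D' = D' := by
    intro D' hD' hle
    by_contra hne
    have h4 := hD'.comm (hD'.conj_of_comm hez.symm) (fun h => hne h.symm)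
    apply not_comm_self hK.quasi
    intro x hx
    rw [mem_centralizer_iff]
    intro y hy
    have hy' : y ∈ cj z D' := by
      have := conj_mem_cj (g := z) (hle hy)
      rwa [← mem_centralizer_iff.mp hzK y hy, mul_inv_cancel_right] at this
    exact (comm_elt h4 (hle hx) hy').symm
  rcases hcase with h | h | ⟨h4, h5, h6⟩
  · left
    rw [← h, hKm]
  · right; left
    have := (Subgroup.map_lt_map_iff_of_injective (Subgroup.subtype_injective Y)).mpr h
    rw [hKm] at this
    exact ⟨this, hlt _ hDc this.le⟩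
  · right; right
    have hne : cj z (D.map Y.subtype) ≠ D.map Y.subtype := by
      intro h7
      apply h4
      have h8 := cj_map_subtype D (⟨z, hzY⟩ : Y)
      change (cj (⟨z, hzY⟩ : Y) D).map Y.subtype = cj z (D.map Y.subtype) at h8
      rw [h7] at h8
      exact Subgroup.map_injective (Subgroup.subtype_injective Y) h8
    refine ⟨hDc.quasi, sq_of_order hz, hzK, hne,
      hDc.comm (hDc.conj_of_comm hez.symm) (fun h => hne h.symm), ?_, ?_⟩
    · rintro _ ⟨d, hd, rfl⟩
      exact h5 d hd
    · intro k hk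
      obtain ⟨d, hd, hkd⟩ := h6 ⟨k, hKY hk⟩ hk
      exact ⟨d, ⟨d, hd, rfl⟩, congrArg Subtype.val hkd⟩

/-- An involution `z` of `C(e)` which centralizes a component `L` of `C(e)`: then `L` is a component of
`C(e) ∩ C(z)`. -/
theorem compIn_of_centralizes {e z : G} {L : Subgroup G} (hL : Comp e L)
    (hz : z ∈ centralizer (L : Set G)) :
    CompIn (centralizer ({e} : Set G) ⊓ centralizer ({z} : Set G)) L := by
  refine (compIn_of_comp hL).mono (le_inf hL.le ?_) inf_le_left
  intro x hx
  exact mem_cs.mpr (mem_centralizer_iff.mp hz x hx)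

end Pump

end Cfsg.Agent.OddHalf.NI
end
end
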