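import Cfsg.Agent.Nodes.ChevChart
set_option linter.all false

/-!
helper617: the model data of the Chevalley groups `D.group K` (node NI, type fact (T')).

* `exists_sl` : the homomorphism `SL(2, K) →* D.group K` onto `⟨X r, X (-r)⟩`; `sl i` : the one of the node `i`;
* `coe_X`, `coe_X_neg`, `th`, `th_mulSingle` : the coordinates of the nodes, `th (t_i) = ∏ h_i(t_i)`;
  `th_ker_E6`, ... : its kernel;
* `prod_cartan` : `∏ h_i(t_i) = 1` implies `∏ t_i ^ ⟨α_j, α_i^∨⟩ = 1` for all `j`; `pow_eq_one` (integral adjugate of the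
  Cartan matrix); `kerE6` (`t_i ^ 3 = 1`), `kerE7` (`t_i ^ 2 = 1`), `kerE8`, `kerF4`, `kerG2` (`t_i = 1`);
* `slEquiv` : `⟨X r, X (-r)⟩ ≃* SL(2, K)` for the long roots `r`.
-/

set_option autoImplicit false
set_option linter.unusedSectionVars false

namespace Cfsg.Agent.OddHalf.NI.ModelChev

open CoxeterSystem Cfsg.Agent.ChevalleyStructure.CoxeterGeom Cfsg.Agent.Tits.Roots Cfsg.Agent.Tits.Core
  Cfsg.Agent.Tits.RootComb Cfsg.Agent.Nodes.Comb Cfsg.Agent.Nodes.Reps Cfsg.Agent.Nodes.BNOf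
  Cfsg.Agent.Nodes.RGDLib Cfsg.Agent.Nodes.Chart Cfsg.Agent.Nodes.Coroot Cfsg.Agent.Nodes.ClsInv
  Cfsg.Agent.Nodes.KindBase Cfsg.Agent.Nodes.KindChev Cfsg.Agent.Nodes.ChevCls Cfsg.Agent.Nodes.ChevChart
open Cfsg.Lie Cfsg.Agent.ChevalleyStructure Cfsg.Agent.ChevalleyStructure.Elts
  Cfsg.Agent.ChevalleyStructure.NPerm Cfsg.Agent.ChevalleyStructure.CoxeterGeomTypes Cfsg.Agent.Nodes.RGDChev
  Cfsg.Agent.KFacts.RgdChevCoord
open Cfsg.Agent.FixBN.FieldRGD (uu vv dd ww)
open scoped MatrixGroups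

universe u

variable {D : ChevalleyDatum} {l : ℕ} {M : CoxeterMatrix (Fin l)} (hp : IsType D l M) {K : Type u} [Field K]

/-! ### The homomorphisms from `SL(2, K)` -/

theorem coe_xc_neg {r : ℕ} (hr : r < D.nroots) (a : K) :
    ((xc hp (-(vec D l r)) a : ↥(D.group K)) : GL D.Idx K) = xG hp.inList (D.neg r) a := by
  rw [← vec_neg hp hr, coe_xc hp (neg_lt hp.inList hr)]

/-- The homomorphism of `SL(2, K)` onto `⟨X r, X (-r)⟩`. -/
theorem exists_sl {r : ℕ} (hr : r < D.nroots) :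
    ∃ φ : SL(2, K) →* ↥(D.group K),
      (∀ a, φ (uu a) = xc hp (vec D l r) a) ∧ (∀ a, φ (vv a) = xc hp (-(vec D l r)) a) ∧
      (∀ b hb, ((φ (ww b hb) : ↥(D.group K)) : GL D.Idx K) = nG hp.inList r b) ∧
      (∀ c hc, ((φ (dd c hc) : ↥(D.group K)) : GL D.Idx K) = hG hp.inList r c) ∧
      φ.range = XX D l K (vec D l r) ⊔ XX D l K (-(vec D l r)) := by
  obtain ⟨φ, hφ, hφ'⟩ := Cfsg.Agent.S1030.result (F := K) D hp.inList r hr
  have hu : ∀ a, φ (uu a) = xG hp.inList r a := fun a => Units.ext ((hφ' (uu a) a).1 rfl)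
  have hv : ∀ a, φ (vv a) = xG hp.inList (D.neg r) a := fun a => Units.ext ((hφ' (vv a) a).2 rfl)
  have hw : ∀ b (hb : b ≠ 0), φ (ww b hb) = nG hp.inList r b := by
    intro b hb
    have h1 : ww b hb = uu b * (vv (-b⁻¹) * uu b) := by
      apply Subtype.ext
      show !![0, b; -b⁻¹, 0] = !![1, b; 0, 1] * (!![1, 0; -b⁻¹, 1] * !![1, b; 0, 1])
      rw [Matrix.mul_fin_two, Matrix.mul_fin_two]
      congr 1
      ext i j
      fin_cases i <;> fin_cases j <;> simp [hb]
    rw [h1, map_mul, map_mul, hu, hv, nG_def]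
  have hd : ∀ c (hc : c ≠ 0), φ (dd c hc) = hG hp.inList r c := by
    intro c hc
    have h1 : dd c hc = ww c hc * ww (-1) (neg_ne_zero.2 one_ne_zero) := by
      apply Subtype.ext
      show !![c, 0; 0, c⁻¹] = !![0, c; -c⁻¹, 0] * !![0, -1; -(-1)⁻¹, 0]
      rw [Matrix.mul_fin_two]
      congr 1
      ext i j
      fin_cases i <;> fin_cases j <;> simp
    rw [h1, map_mul, hw, hw, hG_def]
  have hr' := neg_lt hp.inList hr
  have hle : XV D l K (vec D l r) ≤ D.group K := XV_le_group hp _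
  have hle' : XV D l K (-(vec D l r)) ≤ D.group K := XV_le_group hp _
  have e1 : XV D l K (vec D l r) = D.rootSubgroup K r := XV_vec hp K hr
  have e2 : XV D l K (-(vec D l r)) = D.rootSubgroup K (D.neg r) := by rw [← vec_neg hp hr, XV_vec hp K hr']
  have hmem : ∀ g, φ g ∈ D.group K := by
    intro g
    have h1 : φ g ∈ D.rootSubgroup K r ⊔ D.rootSubgroup K (D.neg r) := by
      rw [← hφ]; exact ⟨g, rfl⟩
    rw [← e1, ← e2] at h1
    exact sup_le hle hle' h1
  refine ⟨φ.codRestrict (D.group K) hmem, fun a => ?_, fun a => ?_, fun b hb => hw b hb, fun c hc => hd c hc, ?_⟩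
  · apply Subtype.ext
    rw [coe_xc hp hr]
    exact hu a
  · apply Subtype.ext
    rw [coe_xc_neg hp hr]
    exact hv a
  · have h1 : XX D l K (vec D l r) ⊔ XX D l K (-(vec D l r)) =
        (XV D l K (vec D l r) ⊔ XV D l K (-(vec D l r))).subgroupOf (D.group K) :=
      (Subgroup.subgroupOf_sup hle hle').symm
    rw [h1, e1, e2, ← hφ]
    ext y
    rw [Subgroup.mem_subgroupOf, MonoidHom.mem_range, MonoidHom.mem_range]
    exact ⟨fun ⟨g, hg⟩ => ⟨g, by rw [← hg]; rfl⟩, fun ⟨g, hg⟩ => ⟨g, Subtype.ext hg⟩⟩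

/-- The homomorphism of `SL(2, K)` onto the rank one group of the node `i`. -/
theorem exists_sl_node (i : Fin l) :
    ∃ φ : SL(2, K) →* ↥(D.group K),
      (∀ a, φ (uu a) = xc hp (sr i) a) ∧ (∀ a, φ (vv a) = xc hp (-sr i) a) ∧
      φ (ww 1 one_ne_zero) = nc hp K i ∧ (∀ c h0, φ (dd c h0) = hc hp i c) ∧
      φ.range = XX D l K (sr i) ⊔ XX D l K (-sr i) := by
  obtain ⟨φ, h1, h2, h3, h4, h5⟩ := exists_sl hp (K := K) (simple_lt hp.inList (lt_rank hp i))
  rw [vec_simple hp i] at h1 h2 h5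
  exact ⟨φ, h1, h2, Subtype.ext (h3 1 one_ne_zero), fun c h0 => Subtype.ext (h4 c h0), h5⟩

/-- The homomorphism of `SL(2, K)` onto the rank one group of the node `i`. -/
noncomputable def sl (i : Fin l) : SL(2, K) →* ↥(D.group K) := (exists_sl_node hp (K := K) i).choose

theorem sl_uu (i : Fin l) (a : K) : sl hp i (uu a) = xc hp (sr i) a := (exists_sl_node hp (K := K) i).choose_spec.1 a

theorem sl_vv (i : Fin l) (a : K) : sl hp i (vv a) = xc hp (-sr i) a :=
  (exists_sl_node hp (K := K) i).choose_spec.2.1 a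

theorem sl_ww (i : Fin l) : sl hp i (ww 1 one_ne_zero) = nc hp K i :=
  (exists_sl_node hp (K := K) i).choose_spec.2.2.1

theorem sl_dd (i : Fin l) (c : K) (h0 : c ≠ 0) : sl hp i (dd c h0) = hc hp i c :=
  (exists_sl_node hp (K := K) i).choose_spec.2.2.2.1 c h0

/-- `X (sr i)` is the image of the upper unipotent matrices. -/
theorem coe_X (i : Fin l) : (XX D l K (sr i) : Set ↥(D.group K)) = Set.range fun a => sl hp (K := K) i (uu a) := by
  ext y
  have h1 := mem_XX hp (simple_lt hp.inList (lt_rank hp i)) y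
  rw [vec_simple hp i] at h1
  rw [SetLike.mem_coe, h1]
  exact ⟨fun ⟨a, ha⟩ => ⟨a, by rw [ha]; exact sl_uu hp i a⟩, fun ⟨a, ha⟩ => ⟨a, by rw [← ha]; exact sl_uu hp i a⟩⟩

/-- `X (-sr i)` is the image of the lower unipotent matrices. -/
theorem coe_X_neg (i : Fin l) :
    (XX D l K (-sr i) : Set ↥(D.group K)) = Set.range fun a => sl hp (K := K) i (vv a) := by
  ext y
  have h0 := simple_lt hp.inList (lt_rank hp i)
  have h1 := mem_XX hp (neg_lt hp.inList h0) y
  rw [vec_neg hp h0, vec_simple hp i] at h1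
  rw [SetLike.mem_coe, h1]
  exact ⟨fun ⟨a, ha⟩ => ⟨a, by rw [ha]; exact sl_vv hp i a⟩, fun ⟨a, ha⟩ => ⟨a, by rw [← ha]; exact sl_vv hp i a⟩⟩

theorem range_sl (i : Fin l) : (sl hp (K := K) i).range = XX D l K (sr i) ⊔ XX D l K (-sr i) :=
  (exists_sl_node hp (K := K) i).choose_spec.2.2.2.2

/-! ### Kernels of homomorphisms from `SL(2, K)` -/

section SL2

variable {Y : Type*} [Group Y] (φ : SL(2, K) →* Y)

theorem key_mat (α β γ δ : K) (hγ : γ ≠ 0) (hdet : α * δ - β * γ = 1) :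
    (!![1, -(α / γ); 0, 1] * !![α, β; γ, δ] * !![1, α / γ; 0, 1] * !![1, 1; 0, 1] : Matrix (Fin 2) (Fin 2) K) =
      !![1, 0; -γ ^ 2, 1] * (!![1, -(α / γ); 0, 1] * !![α, β; γ, δ] * !![1, α / γ; 0, 1]) := by
  obtain rfl : β = (α * δ - 1) / γ := by
    rw [eq_div_iff hγ]
    linear_combination (-1 : K) * hdet
  rw [Matrix.mul_fin_two, Matrix.mul_fin_two, Matrix.mul_fin_two, Matrix.mul_fin_two]
  have e1 : 1 * α + -(α / γ) * γ = 0 := by field_simp; ring
  rw [e1]
  congr 1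
  ext i j
  fin_cases i <;> fin_cases j
  · simp
  · simp
  · simp
  · simp
    field_simp
    ring

/-- A homomorphism from `SL(2, K)` is injective if it is injective on the diagonal matrices and the images of the upper
and of the lower unipotent matrices and of the diagonal matrices are independent. -/
theorem injective_of (hd : ∀ c h0, φ (dd c h0) = 1 → c = 1)
    (h1 : ∀ c h0 a, φ (dd c h0) = φ (uu a) → a = 0) (h2 : ∀ a b, φ (vv a) = φ (uu b) → a = 0) :
    Function.Injective φ := by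
  rw [injective_iff_map_eq_one]
  intro g hg
  have hdet := g.2
  rw [Matrix.det_fin_two] at hdet
  by_cases hc : g.1 1 0 = 0
  · rw [hc, mul_zero, sub_zero] at hdet
    have ha : g.1 0 0 ≠ 0 := left_ne_zero_of_mul_eq_one hdet
    have h11 : g.1 1 1 = (g.1 0 0)⁻¹ := eq_inv_of_mul_eq_one_right hdet
    have e1 : g = dd (g.1 0 0) ha * uu (g.1 0 1 / g.1 0 0) := by
      apply Subtype.ext
      show g.1 = !![g.1 0 0, 0; 0, (g.1 0 0)⁻¹] * !![1, g.1 0 1 / g.1 0 0; 0, 1]
      rw [Matrix.mul_fin_two]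
      ext i j
      fin_cases i <;> fin_cases j
      · simp
      · simp
        field_simp
      · simp [hc]
      · simp [h11]
    have e2 : φ (dd (g.1 0 0) ha) = φ (uu (-(g.1 0 1 / g.1 0 0))) := by
      have e3 : uu (g.1 0 1 / g.1 0 0) * uu (-(g.1 0 1 / g.1 0 0)) = 1 := by
        rw [← Cfsg.Agent.FixBN.FieldRGD.uu_add, add_neg_cancel]
        apply Subtype.ext
        exact Matrix.one_fin_two.symm
      have e4 : φ (dd (g.1 0 0) ha) * φ (uu (g.1 0 1 / g.1 0 0)) = 1 := by rw [← map_mul, ← e1, hg]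
      calc _ = φ (dd (g.1 0 0) ha) * φ (uu (g.1 0 1 / g.1 0 0)) * φ (uu (-(g.1 0 1 / g.1 0 0))) := by
            rw [mul_assoc, ← map_mul, e3, map_one, mul_one]
        _ = _ := by rw [e4, one_mul]
    have h3 := h1 _ _ _ e2
    rw [neg_eq_zero] at h3
    rw [h3, neg_zero] at e2
    have e5 : uu (0 : K) = 1 := Subtype.ext Matrix.one_fin_two.symm
    rw [e5, map_one] at e2
    have h4 := hd _ _ e2
    rw [e1, h3, e5, mul_one]
    apply Subtype.ext
    show !![g.1 0 0, 0; 0, (g.1 0 0)⁻¹] = _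
    rw [h4, inv_one]
    exact Matrix.one_fin_two.symm
  · exfalso
    have key : uu (-(g.1 0 0 / g.1 1 0)) * g * uu (g.1 0 0 / g.1 1 0) * uu 1 =
        vv (-(g.1 1 0) ^ 2) * (uu (-(g.1 0 0 / g.1 1 0)) * g * uu (g.1 0 0 / g.1 1 0)) := by
      apply Subtype.ext
      have h5 := key_mat (g.1 0 0) (g.1 0 1) (g.1 1 0) (g.1 1 1) hc hdet
      rw [← Matrix.eta_fin_two g.1] at h5
      exact h5
    have hk : φ (uu (-(g.1 0 0 / g.1 1 0)) * g * uu (g.1 0 0 / g.1 1 0)) = 1 := by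
      rw [map_mul, map_mul, hg, mul_one, ← map_mul, ← Cfsg.Agent.FixBN.FieldRGD.uu_add, neg_add_cancel]
      have e5 : uu (0 : K) = 1 := Subtype.ext Matrix.one_fin_two.symm
      rw [e5, map_one]
    have h3 := congrArg φ key
    rw [map_mul, map_mul φ (vv _), hk, one_mul, mul_one] at h3
    have h4 := h2 _ _ h3.symm
    rw [neg_eq_zero] at h4
    exact hc (pow_eq_zero_iff two_ne_zero |>.1 h4)

end SL2

/-! ### The characters of the torus -/

/-- The character of the torus on the root group `X r`. -/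
noncomputable def chH {r : ℕ} (hr : r < D.nroots) : ↥(TT D K) →* K where
  toFun t := ch hp (vec D l r) t
  map_one' := by
    refine ch_eq hp hr (one_mem _) ?_
    rw [one_mul, inv_one, mul_one]
  map_mul' s t := by
    refine ch_eq hp hr (mul_mem s.2 t.2) ?_
    have e1 : (s : ↥(D.group K)) * (t : ↥(D.group K)) * xc hp (vec D l r) (1 : K) *
        ((s : ↥(D.group K)) * (t : ↥(D.group K)))⁻¹ =
        (s : ↥(D.group K)) * ((t : ↥(D.group K)) * xc hp (vec D l r) (1 : K) * (t : ↥(D.group K))⁻¹) *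
          (s : ↥(D.group K))⁻¹ := by
      group
    rw [e1, (act hp hr t.2).2, (act hp hr s.2).2, mul_one]

/-- `∏ h_i(t_i) = 1` implies `∏ t_i ^ ⟨r, α_i^∨⟩ = 1`. -/
theorem prod_cartan {t : Fin l → K} (ht : ∀ i, t i ≠ 0) (h1 : (List.ofFn fun i => hc hp i (t i)).prod = 1) {r : ℕ}
    (hr : r < D.nroots) : ∏ i, t i ^ D.cartan i r = 1 := by
  have h2 : (List.ofFn fun i => (⟨hc hp i (t i), hc_mem hp i (ht i)⟩ : ↥(TT D K))).prod = 1 := by
    apply Subtype.ext
    rw [Subgroup.coe_one, ← h1, ← Subgroup.coe_subtype, map_list_prod, List.map_ofFn]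
    rfl
  have h3 := congrArg (chH hp hr) h2
  rw [map_one, map_list_prod, List.map_ofFn, List.prod_ofFn] at h3
  rw [← h3]
  refine Finset.prod_congr rfl fun i _ => ?_
  exact (ch_hc hp i (ht i) hr).symm

theorem prod_cartanOf {t : Fin l → K} (ht : ∀ i, t i ≠ 0) (h1 : (List.ofFn fun i => hc hp i (t i)).prod = 1)
    (j : Fin l) : ∏ i, t i ^ cartanOf D l i j = 1 :=
  prod_cartan hp ht h1 (simple_lt hp.inList (lt_rank hp j))

/-- The integral adjugate of the Cartan matrix. -/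
theorem pow_eq_one {t : Fin l → K} (ht : ∀ i, t i ≠ 0) {C B : Fin l → Fin l → ℤ} {m : ℤ}
    (hB : ∀ i k, ∑ j, C i j * B j k = if i = k then m else 0) (h1 : ∀ j, ∏ i, t i ^ C i j = 1) (k : Fin l) :
    t k ^ m = 1 := by
  have h2 : ∏ j, (∏ i, t i ^ C i j) ^ B j k = 1 := Finset.prod_eq_one fun j _ => by rw [h1, one_zpow]
  have h3 : ∏ j, (∏ i, t i ^ C i j) ^ B j k = ∏ i, t i ^ (∑ j, C i j * B j k) := by
    have e1 : ∀ j, (∏ i, t i ^ C i j) ^ B j k = ∏ i, t i ^ (C i j * B j k) := by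
      intro j
      rw [← Finset.prod_zpow]
      exact Finset.prod_congr rfl fun i _ => by rw [zpow_mul]
    rw [Finset.prod_congr rfl fun j _ => e1 j, Finset.prod_comm]
    refine Finset.prod_congr rfl fun i _ => ?_
    have e2 : ∀ s : Finset (Fin l), ∏ j ∈ s, t i ^ (C i j * B j k) = t i ^ (∑ j ∈ s, C i j * B j k) := by
      intro s
      classical
      induction s using Finset.induction_on with
      | empty => simp
      | insert a s ha ih => rw [Finset.prod_insert ha, Finset.sum_insert ha, zpow_add₀ (ht i), ih]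
    exact e2 _
  rw [h2] at h3
  rw [Finset.prod_eq_single k] at h3
  · rw [hB, if_pos rfl] at h3
    exact h3.symm
  · intro i _ hik
    rw [hB, if_neg hik, zpow_zero]
  · intro h4
    exact absurd (Finset.mem_univ k) h4

/-! ### The homomorphism `th` from `∏ Kˣ` onto the torus -/

/-- The coroot elements as a homomorphism. -/
noncomputable def hcH (i : Fin l) : Kˣ →* ↥(TT D K) where
  toFun t := ⟨hc hp i (t : K), hc_mem hp i t.ne_zero⟩
  map_one' := by
    apply Subtype.ext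
    have h1 := sl_dd hp (K := K) i 1 one_ne_zero
    have h2 : dd (1 : K) one_ne_zero = 1 := by
      apply Subtype.ext
      show !![(1 : K), 0; 0, (1 : K)⁻¹] = _
      rw [inv_one]
      exact Matrix.one_fin_two.symm
    rw [h2, map_one] at h1
    exact h1.symm
  map_mul' s t := by
    apply Subtype.ext
    show hc hp i ((s * t : Kˣ) : K) = hc hp i (s : K) * hc hp i (t : K)
    rw [← sl_dd hp i _ s.ne_zero, ← sl_dd hp i _ t.ne_zero, ← sl_dd hp i _ (s * t).ne_zero, ← map_mul]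
    congr 1
    apply Subtype.ext
    show !![((s * t : Kˣ) : K), 0; 0, ((s * t : Kˣ) : K)⁻¹] = !![(s : K), 0; 0, (s : K)⁻¹] * !![(t : K), 0; 0, (t : K)⁻¹]
    rw [Matrix.mul_fin_two, Units.val_mul, mul_inv]
    congr 1
    ext i j
    fin_cases i <;> fin_cases j <;> simp

theorem coe_hcH (i : Fin l) (t : Kˣ) : ((hcH hp i t : ↥(TT D K)) : ↥(D.group K)) = hc hp i (t : K) := rfl

include hp in
theorem comm_TT (a b : ↥(TT D K)) : a * b = b * a := by
  apply Subtype.ext
  apply Subtype.ext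
  exact Cfsg.Agent.FixBN.ChevGood.diag_comm K hp (Subgroup.mem_subgroupOf.1 a.2) (Subgroup.mem_subgroupOf.1 b.2)

/-- The homomorphism `(t_i) ↦ ∏ h_i(t_i)` into the torus. -/
noncomputable def thT : (Fin l → Kˣ) →* ↥(TT D K) :=
  MonoidHom.noncommPiCoprod (hcH hp (K := K)) fun _ _ _ _ _ => comm_TT hp _ _

/-- The homomorphism `(t_i) ↦ ∏ h_i(t_i)`. -/
noncomputable def th : (Fin l → Kˣ) →* ↥(D.group K) := (TT D K).subtype.comp (thT hp)

theorem thT_mulSingle (i : Fin l) (t : Kˣ) : thT hp (Pi.mulSingle i t) = hcH hp i t :=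
  MonoidHom.noncommPiCoprod_mulSingle _ _ _

theorem th_mulSingle (i : Fin l) (t : Kˣ) : th hp (Pi.mulSingle i t) = sl hp i (dd (t : K) t.ne_zero) := by
  rw [sl_dd]
  show ((thT hp (Pi.mulSingle i t) : ↥(TT D K)) : ↥(D.group K)) = _
  rw [thT_mulSingle, coe_hcH]

/-- The characters of `th`. -/
theorem chH_thT {r : ℕ} (hr : r < D.nroots) (t : Fin l → Kˣ) :
    chH hp hr (thT hp t) = ∏ i, ((t i : Kˣ) : K) ^ D.cartan i r := by
  let f1 : (Fin l → Kˣ) →* K := (chH hp hr).comp (thT hp)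
  let f2 : (Fin l → Kˣ) →* K :=
    { toFun := fun t => ∏ i, ((t i : Kˣ) : K) ^ D.cartan i r
      map_one' := Finset.prod_eq_one fun i _ => by rw [Pi.one_apply, Units.val_one, one_zpow]
      map_mul' := fun s t => by
        rw [← Finset.prod_mul_distrib]
        exact Finset.prod_congr rfl fun i _ => by rw [Pi.mul_apply, Units.val_mul, mul_zpow] }
  have h1 : f1 = f2 := by
    refine MonoidHom.functions_ext _ _ _ fun i u => ?_
    show chH hp hr (thT hp (Pi.mulSingle i u)) = ∏ k, ((Pi.mulSingle i u : Fin l → Kˣ) k : K) ^ D.cartan k r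
    rw [thT_mulSingle, Finset.prod_eq_single i]
    · rw [Pi.mulSingle_eq_same]
      exact ch_hc hp i u.ne_zero hr
    · intro k _ hk
      rw [Pi.mulSingle_eq_of_ne hk, Units.val_one, one_zpow]
    · intro hi; exact absurd (Finset.mem_univ i) hi
  exact DFunLike.congr_fun h1 t

/-- `th t = 1` implies `∏ t_i ^ ⟨α_j, α_i^∨⟩ = 1`. -/
theorem th_cartan {t : Fin l → Kˣ} (h1 : th hp t = 1) (j : Fin l) : ∏ i, ((t i : Kˣ) : K) ^ cartanOf D l i j = 1 := by
  have h2 : thT hp t = 1 := Subtype.ext h1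
  have h3 := chH_thT hp (simple_lt hp.inList (lt_rank hp j)) t
  rw [h2, map_one] at h3
  exact h3.symm

/-! ### The types -/

section Types

def B6 : Fin 6 → Fin 6 → ℤ := ![![4, 3, 5, 6, 4, 2], ![3, 6, 6, 9, 6, 3], ![5, 6, 10, 12, 8, 4],
  ![6, 9, 12, 18, 12, 6], ![4, 6, 8, 12, 10, 5], ![2, 3, 4, 6, 5, 4]]

def B7 : Fin 7 → Fin 7 → ℤ := ![![4, 4, 6, 8, 6, 4, 2], ![4, 7, 8, 12, 9, 6, 3], ![6, 8, 12, 16, 12, 8, 4],
  ![8, 12, 16, 24, 18, 12, 6], ![6, 9, 12, 18, 15, 10, 5], ![4, 6, 8, 12, 10, 8, 4], ![2, 3, 4, 6, 5, 4, 3]]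

def B8 : Fin 8 → Fin 8 → ℤ := ![![4, 5, 7, 10, 8, 6, 4, 2], ![5, 8, 10, 15, 12, 9, 6, 3],
  ![7, 10, 14, 20, 16, 12, 8, 4], ![10, 15, 20, 30, 24, 18, 12, 6], ![8, 12, 16, 24, 20, 15, 10, 5],
  ![6, 9, 12, 18, 15, 12, 8, 4], ![4, 6, 8, 12, 10, 8, 6, 3], ![2, 3, 4, 6, 5, 4, 3, 2]]

def B4 : Fin 4 → Fin 4 → ℤ := ![![2, 3, 4, 2], ![3, 6, 8, 4], ![2, 4, 6, 3], ![1, 2, 3, 2]]

def B2 : Fin 2 → Fin 2 → ℤ := ![![2, 3], ![1, 2]]

set_option backward.isDefEq.respectTransparency false in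
theorem hB6 : ∀ i k, ∑ j, cartanOf chevE6 6 i j * B6 j k = if i = k then 3 else 0 := by decide +kernel

set_option backward.isDefEq.respectTransparency false in
theorem hB7 : ∀ i k, ∑ j, cartanOf chevE7 7 i j * B7 j k = if i = k then 2 else 0 := by decide +kernel

set_option backward.isDefEq.respectTransparency false in
theorem hB8 : ∀ i k, ∑ j, cartanOf chevE8 8 i j * B8 j k = if i = k then 1 else 0 := by decide +kernel

set_option backward.isDefEq.respectTransparency false in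
theorem hB4 : ∀ i k, ∑ j, cartanOf chevF4 4 i j * B4 j k = if i = k then 1 else 0 := by decide +kernel

set_option backward.isDefEq.respectTransparency false in
theorem hB2 : ∀ i k, ∑ j, cartanOf chevG2 2 i j * B2 j k = if i = k then 1 else 0 := by decide +kernel

open Cfsg.Agent.Cit.TypeDet.KindsEF (isTypeG)

/-- Type `E6`: the solutions of `∏ h_i(t_i) = 1` have order `1` or `3`. -/
theorem kerE6 {t : Fin 6 → K} (ht : ∀ i, t i ≠ 0) (h1 : (List.ofFn fun i => hc Nodes.KindE.isType6 i (t i)).prod = 1)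
    (i : Fin 6) : t i ^ 3 = 1 := by
  have := pow_eq_one ht hB6 (prod_cartanOf Nodes.KindE.isType6 ht h1) i
  exact_mod_cast this

/-- Type `E7`: the solutions of `∏ h_i(t_i) = 1` are `± 1`. -/
theorem kerE7 {t : Fin 7 → K} (ht : ∀ i, t i ≠ 0) (h1 : (List.ofFn fun i => hc Nodes.KindE.isType7 i (t i)).prod = 1)
    (i : Fin 7) : t i ^ 2 = 1 := by
  have := pow_eq_one ht hB7 (prod_cartanOf Nodes.KindE.isType7 ht h1) i
  exact_mod_cast this

theorem kerE8 {t : Fin 8 → K} (ht : ∀ i, t i ≠ 0) (h1 : (List.ofFn fun i => hc Nodes.KindE.isType8 i (t i)).prod = 1)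
    (i : Fin 8) : t i = 1 := by
  have := pow_eq_one ht hB8 (prod_cartanOf Nodes.KindE.isType8 ht h1) i
  rwa [zpow_one] at this

theorem kerF4 {t : Fin 4 → K} (ht : ∀ i, t i ≠ 0) (h1 : (List.ofFn fun i => hc Nodes.KindF.isType i (t i)).prod = 1)
    (i : Fin 4) : t i = 1 := by
  have := pow_eq_one ht hB4 (prod_cartanOf Nodes.KindF.isType ht h1) i
  rwa [zpow_one] at this

theorem kerG2 {t : Fin 2 → K} (ht : ∀ i, t i ≠ 0) (h1 : (List.ofFn fun i => hc isTypeG i (t i)).prod = 1)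
    (i : Fin 2) : t i = 1 := by
  have := pow_eq_one ht hB2 (prod_cartanOf isTypeG ht h1) i
  rwa [zpow_one] at this

theorem th_ker_E6 {t : Fin 6 → Kˣ} (h1 : th Nodes.KindE.isType6 t = 1) (i : Fin 6) : t i ^ 3 = 1 := by
  have := pow_eq_one (t := fun i => ((t i : Kˣ) : K)) (fun i => (t i).ne_zero) hB6 (th_cartan _ h1) i
  exact Units.ext (by rw [Units.val_pow_eq_pow_val, Units.val_one]; exact_mod_cast this)

theorem th_ker_E7 {t : Fin 7 → Kˣ} (h1 : th Nodes.KindE.isType7 t = 1) (i : Fin 7) : t i ^ 2 = 1 := by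
  have := pow_eq_one (t := fun i => ((t i : Kˣ) : K)) (fun i => (t i).ne_zero) hB7 (th_cartan _ h1) i
  exact Units.ext (by rw [Units.val_pow_eq_pow_val, Units.val_one]; exact_mod_cast this)

theorem th_ker_E8 {t : Fin 8 → Kˣ} (h1 : th Nodes.KindE.isType8 t = 1) (i : Fin 8) : t i = 1 := by
  have := pow_eq_one (t := fun i => ((t i : Kˣ) : K)) (fun i => (t i).ne_zero) hB8 (th_cartan _ h1) i
  rw [zpow_one] at this
  exact Units.ext this

theorem th_ker_F4 {t : Fin 4 → Kˣ} (h1 : th Nodes.KindF.isType t = 1) (i : Fin 4) : t i = 1 := by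
  have := pow_eq_one (t := fun i => ((t i : Kˣ) : K)) (fun i => (t i).ne_zero) hB4 (th_cartan _ h1) i
  rw [zpow_one] at this
  exact Units.ext this

theorem th_ker_G2 {t : Fin 2 → Kˣ} (h1 : th isTypeG t = 1) (i : Fin 2) : t i = 1 := by
  have := pow_eq_one (t := fun i => ((t i : Kˣ) : K)) (fun i => (t i).ne_zero) hB2 (th_cartan _ h1) i
  rw [zpow_one] at this
  exact Units.ext this

end Types

/-! ### The long root `SL(2, K)` -/

/-- The rank one homomorphism is injective if some Cartan integer in its row is `-1`. -/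
theorem sl_injective [Finite K] (p : ℕ) [Fact p.Prime] [CharP K p] {i j : Fin l} (hij : cartanOf D l i j = -1) :
    Function.Injective (sl hp (K := K) i) := by
  have : Finite M.Group := finite_W hp M.toCoxeterSystem
  have R := rgd (K := K) hp M.toCoxeterSystem p
  have hi := isRoot_sr M.toCoxeterSystem hp.isCartan i
  have hsi := simple_lt hp.inList (lt_rank hp i)
  have hsj := simple_lt hp.inList (lt_rank hp j)
  have hX : ∀ a : K, xc hp (sr i) a ∈ XX D l K (sr i) := by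
    intro a
    rw [← vec_simple hp i]
    exact (mem_XX hp hsi _).2 ⟨a, rfl⟩
  refine injective_of _ (fun c h0 h1 => ?_) (fun c h0 a h1 => ?_) (fun a b h1 => ?_)
  · rw [sl_dd] at h1
    have h2 := ch_hc hp i h0 hsj
    have h3 : ch hp (vec D l (D.simple j)) (1 : ↥(D.group K)) = 1 := (chH hp hsj).map_one
    rw [h1, h3] at h2
    have h4 : D.cartan i (D.simple j) = -1 := hij
    rw [h4, zpow_neg_one] at h2
    exact (inv_eq_one.1 h2.symm)
  · rw [sl_dd, sl_uu] at h1
    have h2 : xc hp (sr i) a ∈ XX D l K (sr i) ⊓ TT D K := ⟨hX a, h1 ▸ hc_mem hp i h0⟩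
    rw [Nodes.OppDec.X_inf_T R hi, Subgroup.mem_bot] at h2
    rw [← vec_simple hp i] at h2
    apply xc_inj hp hsi
    rw [h2]
    apply Subtype.ext
    rw [coe_xc hp hsi, xG_zero]
    rfl
  · rw [sl_vv, sl_uu] at h1
    have h2 : xc hp (-sr i) a ∈ XX D l K (-sr i) ⊓ XX D l K (sr i) := by
      refine ⟨?_, h1 ▸ hX b⟩
      rw [← vec_simple hp i, ← vec_neg hp hsi]
      exact (mem_XX hp (neg_lt hp.inList hsi) _).2 ⟨a, rfl⟩
    rw [Nodes.OppDec.X_inf_X R hi.neg hi (by
      intro h3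
      have h4 := congrFun h3 i
      rw [Pi.neg_apply, sr_self] at h4
      norm_num at h4), Subgroup.mem_bot] at h2
    rw [← vec_simple hp i, ← vec_neg hp hsi] at h2
    apply xc_inj hp (neg_lt hp.inList hsi)
    rw [h2]
    apply Subtype.ext
    rw [coe_xc hp (neg_lt hp.inList hsi), xG_zero]
    rfl

variable {f : ℕ} {N : ℤ} {d : Fin l → ℤ} {fr cf : Fin f → Fin l → ℤ} {idx : Fin f → ℕ}

/-- **The long root subgroups `SL(2, K)`.** -/
theorem slEquiv [Finite K] (p : ℕ) [Fact p.Prime] [CharP K p] (T : KD D l f N d fr cf idx) {i j : Fin l}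
    (hij : cartanOf D l i j = -1) (hi : 2 * d i = N) {r : Fin l → ℤ}
    (hr : r ∈ RN M.toCoxeterSystem (h := hp.isCartan) N d) : Nonempty (SL(2, K) ≃* ↥(KT D l K r)) := by
  have hi' : (sr i : Fin l → ℤ) ∈ RN M.toCoxeterSystem (h := hp.isCartan) N d := by
    refine ⟨isRoot_sr _ _ i, ?_⟩
    have := qf_root M.toCoxeterSystem hp.isCartan T.hd 1 i
    rw [map_one, Module.End.one_apply] at this
    rw [this, hi]
  obtain ⟨g, hg⟩ := exists_cj_KT (K := K) hp p T hi' hr
  have e1 := MonoidHom.ofInjective (sl_injective hp (K := K) p hij)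
  have h2 : (sl hp (K := K) i).range = KT D l K (sr i) := range_sl hp i
  have e2 : ↥(KT D l K (sr i)) ≃* ↥(KT D l K r) := by
    rw [← hg]
    exact (KT D l K (sr i)).equivMapOfInjective _ (MulAut.conj g).injective
  exact ⟨(e1.trans (MulEquiv.subgroupCongr h2)).trans e2⟩

end Cfsg.Agent.OddHalf.NI.ModelChev
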